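import Cfsg.Agent.H988.CPi
import Cfsg.Agent.H263.ChermakDelgado

/-!
# Products of two π-decomposable groups: basic facts (helper817, for S4246)

* `dom_compl`, `dom_chain`, `dom_normalizer`: in groups with a normal series with factors `π`, `π'`, `π`
  every `π`-subgroup lies in a conjugate of a given Hall `π`-subgroup;
* `PD π LA KA LB KB`: `G = (LA × KA)(LB × KB)` with `π`-groups `LA, LB` and `π'`-groups `KA, KB`;
* `PD.hall`: if `LA ⊔ LB` is a `π`-group then it is a Hall `π`-subgroup and equal to `LA * LB`;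
* `PD.good_of_conj`: `LA ≤ H`, `LB ≤ H ^ g` and `H` a `π`-group imply that `LA ⊔ LB` is a `π`-group;
* `PD.sub`, `PD.quot`, `PD.symm`.
-/

set_option autoImplicit false
set_option linter.dupNamespace false
set_option linter.unusedSectionVars false
set_option linter.unusedVariables false

namespace Cfsg.Agent.H817.PD

open Subgroup Cfsg Cfsg.Agent.H988.CPi
open scoped Pointwise

variable {π : Set ℕ}

theorem PiN.one : PiN π 1 := fun p hp h => absurd (Nat.dvd_one.1 h) hp.ne_one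

theorem PiN'.one : PiN' π 1 := fun p hp _ h => absurd (Nat.dvd_one.1 h) hp.ne_one

variable {G : Type*} [Group G]

theorem mem_conj_smul {g x : G} {H : Subgroup G} : x ∈ MulAut.conj g • H ↔ g⁻¹ * x * g ∈ H := by
  rw [Subgroup.mem_smul_pointwise_iff_exists]
  constructor
  · rintro ⟨y, hy, rfl⟩
    have : g⁻¹ * (MulAut.conj g • y) * g = y := by
      simp [MulAut.conj_apply, mul_assoc]
    rw [this]; exact hy
  · intro h
    exact ⟨g⁻¹ * x * g, h, by simp [MulAut.conj_apply, mul_assoc]⟩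

theorem conj_smul_le_iff {g : G} {H K : Subgroup G} :
    H ≤ MulAut.conj g • K ↔ ∀ x ∈ H, g⁻¹ * x * g ∈ K :=
  ⟨fun h x hx => mem_conj_smul.1 (h hx), fun h x hx => mem_conj_smul.2 (h x hx)⟩

variable [Finite G]

theorem eq_bot_of_coprime {H K : Subgroup G} (h1 : PiN π (Nat.card H)) (h2 : PiN' π (Nat.card K)) :
    H ⊓ K = ⊥ :=
  (disjoint_of_coprime_natCard (h1.coprime h2)).eq_bot

/-- Schur–Zassenhaus, dominance. -/
theorem dom_compl (N : Subgroup G) [N.Normal] (h1 : PiN' π (Nat.card N)) (h2 : PiN π N.index)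
    {H L : Subgroup G} (hH : IsPiHall π H) (hL : PiN π (Nat.card L)) : ∃ g : G, L ≤ MulAut.conj g • H := by
  have hNH : N ⊓ H = ⊥ := by rw [inf_comm]; exact eq_bot_of_coprime hH.1 h1
  have hsup : H ⊔ N = ⊤ := by
    rw [← index_eq_one]
    apply eq_one_of_both (π := π)
    · exact h2.of_dvd (index_dvd_of_le le_sup_right)
    · exact PiN'.of_dvd hH.2 (index_dvd_of_le le_sup_left)
  set M : Subgroup G := L ⊔ N with hM
  have hNM : N ≤ M := le_sup_right
  have hLM : L ≤ M := le_sup_left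
  have hrel : N.relIndex M = Nat.card L := by
    rw [hM, relIndex_sup_right, ← relIndex_bot_left, ← inf_relIndex_right, inf_comm,
      eq_bot_of_coprime hL h1]
  have hcM : Nat.card M = Nat.card N * Nat.card L := by
    rw [← hrel, ← relIndex_bot_left N, relIndex_mul_relIndex ⊥ N M bot_le hNM, relIndex_bot_left]
  -- the intersection of `M` and `H`
  have hmod : (M ⊓ H) ⊔ N = M := by
    apply le_antisymm (sup_le inf_le_left hNM)
    intro x hx
    have hx2 : x ∈ H ⊔ N := by rw [hsup]; exact mem_top x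
    obtain ⟨h, hh, n, hn, rfl⟩ := (mem_sup_of_normal_right).1 hx2
    refine mul_mem_sup (mem_inf.2 ⟨?_, hh⟩) hn
    have := M.mul_mem hx (M.inv_mem (hNM hn))
    simpa using this
  have hcard : Nat.card ↥(M ⊓ H) = Nat.card L := by
    rw [← hrel]
    conv_rhs => rw [← hmod]
    have h3 : N ⊓ (M ⊓ H) = ⊥ := by
      rw [eq_bot_iff, ← hNH]
      exact le_inf inf_le_left (inf_le_right.trans inf_le_right)
    rw [relIndex_sup_right, ← inf_relIndex_right N, h3, relIndex_bot_left]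
  have hall : ∀ X : Subgroup G, X ≤ M → Nat.card X = Nat.card L → IsPiHall π (X.subgroupOf M) := by
    intro X hX hc
    have hc1 : Nat.card (X.subgroupOf M) = Nat.card L := by
      rw [← hc]; exact Nat.card_congr (subgroupOfEquivOfLe hX).toEquiv
    refine ⟨by rw [hc1]; exact hL, ?_⟩
    have h3 := (X.subgroupOf M).card_mul_index
    rw [hc1, hcM, mul_comm (Nat.card N)] at h3
    have h4 : (X.subgroupOf M).index = Nat.card N := Nat.eq_of_mul_eq_mul_left Nat.card_pos h3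
    have : PiN' π (X.subgroupOf M).index := by rw [h4]; exact h1
    exact this
  have hcpi : IsCPiGroup π ↥M := by
    apply cpi_of_compl (N.subgroupOf M)
    · rw [Nat.card_congr (subgroupOfEquivOfLe hNM).toEquiv]; exact h1
    · have : (N.subgroupOf M).index = Nat.card L := hrel
      rw [this]; exact hL
  obtain ⟨m, hm⟩ := hcpi.2 _ _ (hall (M ⊓ H) inf_le_left hcard) (hall L hLM rfl)
  rw [conj_eq] at hm
  obtain ⟨m', -, hm'⟩ := Cfsg.Agent.Solvable.SZ.conj_of_subgroupOf M (M ⊓ H) L inf_le_left hLM ⟨m, hm.symm⟩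
  refine ⟨m', ?_⟩
  rw [← hm']
  intro x hx
  rw [mem_conj_smul] at hx ⊢
  exact hx.2

/-- dominance in a group with normal series with factors `π`, `π'`, `π`. -/
theorem dom_chain (S B : Subgroup G) [S.Normal] [B.Normal] (hSB : S ≤ B) (h1 : PiN π (Nat.card S))
    (h2 : PiN' π (S.relIndex B)) (h3 : PiN π B.index) {H L : Subgroup G} (hH : IsPiHall π H)
    (hL : PiN π (Nat.card L)) : ∃ g : G, L ≤ MulAut.conj g • H := by
  have : (B.map (QuotientGroup.mk' S)).Normal := Normal.map inferInstance _ (QuotientGroup.mk'_surjective S)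
  have h4 : (B.map (QuotientGroup.mk' S)).index = B.index :=
    index_map_eq _ (QuotientGroup.mk'_surjective S) (by rw [QuotientGroup.ker_mk']; exact hSB)
  have h5 : Nat.card (B.map (QuotientGroup.mk' S)) = S.relIndex B := by
    have h5 := card_mul_index (B.map (QuotientGroup.mk' S))
    have h6 : Nat.card (G ⧸ S) = S.index := rfl
    rw [h4, h6, ← relIndex_mul_index hSB] at h5
    have h7 : B.index ≠ 0 := index_ne_zero_of_finite
    exact Nat.eq_of_mul_eq_mul_right (Nat.pos_of_ne_zero h7) h5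
  obtain ⟨g, hg⟩ := dom_compl (B.map (QuotientGroup.mk' S)) (by rw [h5]; exact h2) (by rw [h4]; exact h3)
    (isPiHall_map_mk hH S) (L := L.map (QuotientGroup.mk' S)) (hL.of_dvd (card_map_dvd _ _))
  obtain ⟨g, rfl⟩ := QuotientGroup.mk'_surjective S g
  refine ⟨g, conj_smul_le_iff.2 fun x hx => ?_⟩
  have h6 := conj_smul_le_iff.1 hg _ (mem_map_of_mem (QuotientGroup.mk' S) hx)
  rw [← map_inv, ← map_mul, ← map_mul] at h6
  obtain ⟨y, hy, hyx⟩ := h6
  have h7 : y⁻¹ * (g⁻¹ * x * g) ∈ S := (QuotientGroup.eq (s := S)).1 hyx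
  have h8 : S ≤ H := le_of_normal hH h1
  have := H.mul_mem hy (h8 h7)
  simpa [mul_assoc] using this

/-- The criterion with a Hall subgroup of a normal subgroup. -/
theorem dom_normalizer {P N Y : Subgroup G} [N.Normal] (hPN : P ≤ N) (hP : PiN π (Nat.card P))
    (hP' : PiN' π (P.relIndex N)) (hNY : N ≤ Y) (hY : PiN π (N.relIndex Y)) {L L' : Subgroup G}
    (hL : PiN π (Nat.card L)) (hL' : PiN π (Nat.card L')) (h1 : L ≤ normalizer (P : Set G) ⊓ Y)
    (h2 : L' ≤ normalizer (P : Set G) ⊓ Y) :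
    ∃ H : Subgroup G, PiN π (Nat.card H) ∧ L ≤ H ∧ ∃ g : G, L' ≤ MulAut.conj g • H := by
  set M : Subgroup G := normalizer (P : Set G) ⊓ Y with hM
  have hPM : P ≤ M := le_inf le_normalizer (hPN.trans hNY)
  have n1 : (P.subgroupOf M).Normal := by
    exact (normal_subgroupOf_iff_le_normalizer hPM).mpr inf_le_left
  have n2 : (N.subgroupOf M).Normal := inferInstance
  have c0 : P.subgroupOf M ≤ N.subgroupOf M := fun x hx => hPN hx
  have c1 : PiN π (Nat.card (P.subgroupOf M)) := by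
    rw [Nat.card_congr (subgroupOfEquivOfLe hPM).toEquiv]; exact hP
  have c2 : PiN' π ((P.subgroupOf M).relIndex (N.subgroupOf M)) := by
    have h3 : (P.subgroupOf M).relIndex (N.subgroupOf M) = P.relIndex (N ⊓ M) := by
      rw [← inf_subgroupOf_right N M, relIndex_subgroupOf inf_le_right]
    rw [h3]
    refine PiN'.of_dvd hP' ?_
    have := relIndex_mul_relIndex P (N ⊓ M) N (le_inf hPN hPM) inf_le_left
    exact ⟨_, this.symm⟩
  have c3 : PiN π (N.subgroupOf M).index := by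
    have h3 : (N.subgroupOf M).index = N.relIndex M := rfl
    rw [h3]
    refine PiN.of_dvd hY ?_
    rw [← relIndex_sup_right M N, ← relIndex_mul_relIndex N (M ⊔ N) Y le_sup_right (sup_le inf_le_right hNY)]
    exact dvd_mul_right _ _
  obtain ⟨⟨H, hH⟩, -⟩ := cpi_of_chain (P.subgroupOf M) (N.subgroupOf M) c0 c1 c2 c3
  have key : ∀ X : Subgroup G, PiN π (Nat.card X) → X ≤ M →
      ∃ m : M, X ≤ MulAut.conj (m : G) • H.map M.subtype := by
    intro X hX hXM
    obtain ⟨m, hm⟩ := dom_chain (P.subgroupOf M) (N.subgroupOf M) c0 c1 c2 c3 hH (L := X.subgroupOf M)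
      (by rw [Nat.card_congr (subgroupOfEquivOfLe hXM).toEquiv]; exact hX)
    refine ⟨m, conj_smul_le_iff.2 fun x hx => ?_⟩
    have h3 := conj_smul_le_iff.1 hm ⟨x, hXM hx⟩ hx
    exact ⟨_, h3, rfl⟩
  obtain ⟨a, ha⟩ := key L hL h1
  obtain ⟨b, hb⟩ := key L' hL' h2
  refine ⟨MulAut.conj (a : G) • H.map M.subtype, ?_, ha, (b : G) * (a : G)⁻¹, ?_⟩
  · rw [Cfsg.Agent.Solvable.SZ.card_conj_smul, card_map_of_injective M.subtype_injective]
    exact hH.1
  · rw [← mul_smul, ← map_mul, inv_mul_cancel_right]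
    exact hb

omit [Finite G] in
/-- powers separate commuting elements of coprime orders -/
theorem mem_zpowers_of_mul [Finite G] {c d : G} (h : c * d = d * c) (hcop : (orderOf c).Coprime (orderOf d)) :
    c ∈ zpowers (c * d) ∧ d ∈ zpowers (c * d) := by
  obtain ⟨n, hn1, hn2⟩ := Nat.chineseRemainder hcop 1 0
  have hc : Commute c d := h
  have h1 : c ^ n = c := by
    have := pow_eq_pow_iff_modEq.2 hn1
    rwa [pow_one] at this
  have h2 : d ^ n = 1 := by
    have := pow_eq_pow_iff_modEq.2 hn2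
    rwa [pow_zero] at this
  have h3 : c ∈ zpowers (c * d) := by
    have h4 : (c * d) ^ n = c := by rw [hc.mul_pow, h1, h2, mul_one]
    have h5 := (zpowers (c * d)).pow_mem (mem_zpowers (c * d)) n
    rwa [h4] at h5
  refine ⟨h3, ?_⟩
  have := (zpowers (c * d)).mul_mem ((zpowers (c * d)).inv_mem h3) (mem_zpowers (c * d))
  simpa using this

/-- `G = (LA × KA)(LB × KB)` with `π`-groups `LA, LB` and `π'`-groups `KA, KB`. -/
structure PD (π : Set ℕ) {G : Type*} [Group G] (LA KA LB KB : Subgroup G) : Prop where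
  la : PiN π (Nat.card LA)
  ka : PiN' π (Nat.card KA)
  lb : PiN π (Nat.card LB)
  kb : PiN' π (Nat.card KB)
  ca : ∀ a ∈ LA, ∀ b ∈ KA, a * b = b * a
  cb : ∀ a ∈ LB, ∀ b ∈ KB, a * b = b * a
  prod : ∀ g : G, ∃ a ∈ LA, ∃ b ∈ KA, ∃ c ∈ LB, ∃ d ∈ KB, g = a * b * (c * d)

theorem split {L K : Subgroup G} (h1 : PiN π (Nat.card L)) (h2 : PiN' π (Nat.card K))
    (hc : ∀ a ∈ L, ∀ b ∈ K, a * b = b * a) {c d : G} (hcL : c ∈ L) (hdK : d ∈ K) :
    c ∈ zpowers (c * d) ∧ d ∈ zpowers (c * d) := by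
  apply mem_zpowers_of_mul (hc c hcL d hdK)
  refine PiN.coprime (π := π) (h1.of_dvd ?_) (h2.of_dvd ?_)
  · exact Subgroup.orderOf_dvd_natCard L hcL
  · exact Subgroup.orderOf_dvd_natCard K hdK

theorem split_mem {L K : Subgroup G} (h1 : PiN π (Nat.card L)) (h2 : PiN' π (Nat.card K))
    (hc : ∀ a ∈ L, ∀ b ∈ K, a * b = b * a) {c d : G} (hcL : c ∈ L) (hdK : d ∈ K) {Z : Subgroup G}
    (hZ : c * d ∈ Z) : c ∈ Z ∧ d ∈ Z := by
  obtain ⟨h3, h4⟩ := split h1 h2 hc hcL hdK
  have : zpowers (c * d) ≤ Z := zpowers_le.2 hZ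
  exact ⟨this h3, this h4⟩

omit [Finite G] in
theorem mem_sup_comm {L K : Subgroup G} (hc : ∀ a ∈ L, ∀ b ∈ K, a * b = b * a) {x : G} :
    x ∈ L ⊔ K ↔ ∃ c ∈ L, ∃ d ∈ K, x = c * d := by
  constructor
  · intro hx
    have hLK : L ≤ normalizer (K : Set G) := by
      intro a ha
      rw [mem_normalizer_iff]
      intro b
      constructor
      · intro hb
        have : a * b * a⁻¹ = b := by rw [hc a ha b hb, mul_inv_cancel_right]
        rw [this]; exact hb
      · intro hb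
        have h3 := hc a ha _ hb
        have : b = a * b * a⁻¹ := by
          have h4 : a * (a * b * a⁻¹) * a⁻¹ = a * b * a⁻¹ := by rw [h3]; group
          have h5 : a * b * a⁻¹ = b := by
            have := congrArg (fun z => a⁻¹ * z * a) h4
            simpa [mul_assoc] using this
          exact h5.symm
        rw [this]; exact hb
    have h4 : (x : G) ∈ ((L ⊔ K : Subgroup G) : Set G) := hx
    rw [coe_mul_of_left_le_normalizer_right L K hLK] at h4
    obtain ⟨c, hc', d, hd, rfl⟩ := h4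
    exact ⟨c, hc', d, hd, rfl⟩
  · rintro ⟨c, hc', d, hd, rfl⟩
    exact mul_mem_sup hc' hd

theorem card_sup {L K : Subgroup G} (h1 : PiN π (Nat.card L)) (h2 : PiN' π (Nat.card K))
    (hc : ∀ a ∈ L, ∀ b ∈ K, a * b = b * a) : Nat.card ↥(L ⊔ K) = Nat.card L * Nat.card K := by
  have h3 := Cfsg.Agent.H263.ChermakDelgado.ncard_mul_inf L K
  rw [eq_bot_of_coprime h1 h2, card_bot, mul_one] at h3
  rw [← h3, ← Nat.card_coe_set_eq]
  apply congrArg (fun s : Set G => Nat.card s)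
  ext x
  rw [SetLike.mem_coe, mem_sup_comm hc]
  constructor
  · rintro ⟨c, hc', d, hd, rfl⟩
    exact ⟨c, hc', d, hd, rfl⟩
  · rintro ⟨c, hc', d, hd, rfl⟩
    exact ⟨c, hc', d, hd, rfl⟩

namespace PD

variable {LA KA LB KB : Subgroup G} (h : PD π LA KA LB KB)
include h

omit [Finite G] in
theorem symm : PD π LB KB LA KA := by
  refine ⟨h.lb, h.kb, h.la, h.ka, h.cb, h.ca, fun g => ?_⟩
  obtain ⟨a, ha, b, hb, c, hc, d, hd, hg⟩ := h.prod g⁻¹
  refine ⟨c⁻¹, LB.inv_mem hc, d⁻¹, KB.inv_mem hd, a⁻¹, LA.inv_mem ha, b⁻¹, KA.inv_mem hb, ?_⟩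
  have h1 : g = (a * b * (c * d))⁻¹ := by rw [← hg, inv_inv]
  rw [h1, h.ca a ha b hb, h.cb c hc d hd]
  group

theorem card_A : Nat.card ↥(LA ⊔ KA) = Nat.card LA * Nat.card KA := card_sup h.la h.ka h.ca

theorem card_B : Nat.card ↥(LB ⊔ KB) = Nat.card LB * Nat.card KB := card_sup h.lb h.kb h.cb

theorem inf_eq : (LA ⊔ KA) ⊓ (LB ⊔ KB) = (LA ⊓ LB) ⊔ (KA ⊓ KB) := by
  apply le_antisymm
  · rintro x ⟨hx1, hx2⟩
    have hx1 := (mem_sup_comm h.ca).1 hx1
    have hx2 := (mem_sup_comm h.cb).1 hx2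
    obtain ⟨a, ha, b, hb, hab⟩ := hx1
    obtain ⟨c, hc, d, hd, hcd⟩ := hx2
    -- both are the coprime parts of `x`
    have h1 : c⁻¹ * a = d * b⁻¹ := by
      have : a * b = c * d := by rw [← hab, hcd]
      have h2 : a = c * d * b⁻¹ := by rw [← this]; group
      rw [h2]; group
    obtain ⟨ha', hb'⟩ := split h.la h.ka h.ca ha hb
    obtain ⟨hc', hd'⟩ := split h.lb h.kb h.cb hc hd
    rw [← hab] at ha' hb'
    rw [← hcd] at hc' hd'
    have hcomm : ∀ u ∈ zpowers x, ∀ v ∈ zpowers x, u * v = v * u := by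
      rintro _ ⟨m, rfl⟩ _ ⟨n, rfl⟩
      simp only [← zpow_add, add_comm]
    have e1 : orderOf (c⁻¹ * a) = 1 := by
      apply eq_one_of_both (π := π)
      · intro p hp hpd
        have hcom : Commute c⁻¹ a := hcomm _ (inv_mem hc') _ ha'
        have h5 := hcom.orderOf_mul_dvd_mul_orderOf
        rw [orderOf_inv] at h5
        rcases hp.dvd_mul.1 (hpd.trans h5) with h6 | h6
        · exact h.lb p hp (h6.trans (Subgroup.orderOf_dvd_natCard LB hc))
        · exact h.la p hp (h6.trans (Subgroup.orderOf_dvd_natCard LA ha))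
      · intro p hp hpπ hpd
        rw [h1] at hpd
        have hcom : Commute d b⁻¹ := hcomm _ hd' _ (inv_mem hb')
        have h5 := hcom.orderOf_mul_dvd_mul_orderOf
        rw [orderOf_inv] at h5
        rcases hp.dvd_mul.1 (hpd.trans h5) with h6 | h6
        · exact h.kb p hp hpπ (h6.trans (Subgroup.orderOf_dvd_natCard KB hd))
        · exact h.ka p hp hpπ (h6.trans (Subgroup.orderOf_dvd_natCard KA hb))
    rw [orderOf_eq_one_iff] at e1
    have e2 : a = c := by rw [inv_mul_eq_one] at e1; exact e1.symm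
    have e3 : d = b := by rw [e1] at h1; exact (mul_inv_eq_one.1 h1.symm)
    rw [hab]
    exact mul_mem_sup ⟨ha, e2 ▸ hc⟩ ⟨hb, e3 ▸ hd⟩
  · refine sup_le (le_inf (inf_le_left.trans le_sup_left) (inf_le_right.trans le_sup_left))
      (le_inf (inf_le_left.trans le_sup_right) (inf_le_right.trans le_sup_right))

theorem card_mul : Nat.card G * (Nat.card ↥(LA ⊓ LB) * Nat.card ↥(KA ⊓ KB)) =
    Nat.card LA * Nat.card KA * (Nat.card LB * Nat.card KB) := by
  have h1 := Cfsg.Agent.H263.ChermakDelgado.ncard_mul_inf (LA ⊔ KA) (LB ⊔ KB)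
  have h2 : ((LA ⊔ KA : Subgroup G) : Set G) * ((LB ⊔ KB : Subgroup G) : Set G) = Set.univ := by
    rw [Set.eq_univ_iff_forall]
    intro g
    obtain ⟨a, ha, b, hb, c, hc, d, hd, rfl⟩ := h.prod g
    exact ⟨a * b, mul_mem_sup ha hb, c * d, mul_mem_sup hc hd, rfl⟩
  rw [h2, Set.ncard_univ, h.inf_eq, h.card_A, h.card_B] at h1
  rw [← h1, card_sup (π := π) (h.la.of_dvd (card_dvd_of_le inf_le_left)) (h.ka.of_dvd (card_dvd_of_le inf_le_left))]
  intro a ha b hb
  exact h.ca a ha.1 b hb.1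

/-- if `LA ⊔ LB` is a `π`-group then it is a Hall `π`-subgroup and equal to `LA * LB`. -/
theorem hall_aux (hg : PiN π (Nat.card ↥(LA ⊔ LB))) :
    ((LA : Set G) * (LB : Set G)).ncard = Nat.card ↥(LA ⊔ LB) ∧ PiN' π (LA ⊔ LB).index := by
  have e1 := Cfsg.Agent.H263.ChermakDelgado.ncard_mul_inf LA LB
  have e2 := Cfsg.Agent.H263.ChermakDelgado.ncard_mul_inf KA KB
  have e3 := h.card_mul
  set m := ((LA : Set G) * (LB : Set G)).ncard with hm
  set n := ((KA : Set G) * (KB : Set G)).ncard with hn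
  have hmπ : PiN π m := (h.la.mul h.lb).of_dvd ⟨_, e1.symm⟩
  have hnπ : PiN' π n := (h.ka.mul h.kb).of_dvd ⟨_, e2.symm⟩
  have e4 : Nat.card G = m * n := by
    have h5 : Nat.card G * (Nat.card ↥(LA ⊓ LB) * Nat.card ↥(KA ⊓ KB)) =
        m * n * (Nat.card ↥(LA ⊓ LB) * Nat.card ↥(KA ⊓ KB)) := by
      rw [e3]
      calc Nat.card LA * Nat.card KA * (Nat.card LB * Nat.card KB)
          = (Nat.card LA * Nat.card LB) * (Nat.card KA * Nat.card KB) := by ring
        _ = _ := by rw [← e1, ← e2]; ring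
    exact Nat.eq_of_mul_eq_mul_right (Nat.mul_pos Nat.card_pos Nat.card_pos) h5
  have h6 : Nat.card ↥(LA ⊔ LB) ∣ m := by
    have h7 : Nat.card ↥(LA ⊔ LB) ∣ m * n := by rw [← e4]; exact card_subgroup_dvd_card _
    exact (hg.coprime hnπ).dvd_of_dvd_mul_right h7
  have h8 : m ≤ Nat.card ↥(LA ⊔ LB) := Cfsg.Agent.H263.ChermakDelgado.ncard_mul_le_sup LA LB
  have hm0 : 0 < m := by
    rw [Nat.pos_iff_ne_zero]
    intro h0
    rw [h0, zero_mul] at e4
    exact Nat.card_pos.ne' e4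
  have h9 : m = Nat.card ↥(LA ⊔ LB) := le_antisymm h8 (Nat.le_of_dvd hm0 h6)
  refine ⟨h9, ?_⟩
  have h10 := (LA ⊔ LB).card_mul_index
  rw [e4, h9] at h10
  rw [Nat.eq_of_mul_eq_mul_left Nat.card_pos h10]
  exact hnπ

theorem hall (hg : PiN π (Nat.card ↥(LA ⊔ LB))) : IsPiHall π (LA ⊔ LB) :=
  ⟨hg, (h.hall_aux hg).2⟩

theorem coe_sup (hg : PiN π (Nat.card ↥(LA ⊔ LB))) :
    ((LA ⊔ LB : Subgroup G) : Set G) = (LA : Set G) * (LB : Set G) := by
  symm
  apply Set.eq_of_subset_of_ncard_le (Cfsg.Agent.H263.ChermakDelgado.mul_subset_sup LA LB)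
  rw [(h.hall_aux hg).1]
  exact le_of_eq (Nat.card_coe_set_eq _).symm

/-- The conjugacy trick. -/
theorem good_of_conj {H : Subgroup G} (hH : PiN π (Nat.card H)) (h1 : LA ≤ H) {g : G}
    (h2 : LB ≤ MulAut.conj g • H) : PiN π (Nat.card ↥(LA ⊔ LB)) := by
  obtain ⟨c, hc, d, hd, a, ha, b, hb, rfl⟩ := h.symm.prod g
  -- `LB ≤ H ^ (a b)`, `LA ≤ H ^ (a b)`
  have h3 : LB ≤ MulAut.conj (a * b) • H := by
    rw [conj_smul_le_iff] at h2 ⊢
    intro x hx
    have h4 := h2 ((c * d) * x * (c * d)⁻¹) ?_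
    · have : (c * d * (a * b))⁻¹ * (c * d * x * (c * d)⁻¹) * (c * d * (a * b)) = (a * b)⁻¹ * x * (a * b) := by
        group
      rwa [this] at h4
    · have h5 : c * d * x * (c * d)⁻¹ = c * x * c⁻¹ := by
        have := h.cb x hx d hd
        calc c * d * x * (c * d)⁻¹ = c * (d * x) * d⁻¹ * c⁻¹ := by group
          _ = c * (x * d) * d⁻¹ * c⁻¹ := by rw [this]
          _ = _ := by group
      rw [h5]
      exact LB.mul_mem (LB.mul_mem hc hx) (LB.inv_mem hc)
  have h4 : LA ≤ MulAut.conj (a * b) • H := by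
    rw [conj_smul_le_iff]
    intro x hx
    have h5 : (a * b)⁻¹ * x * (a * b) = a⁻¹ * x * a := by
      have e1 := h.ca (a⁻¹ * x * a) (LA.mul_mem (LA.mul_mem (LA.inv_mem ha) hx) ha) b hb
      calc (a * b)⁻¹ * x * (a * b) = b⁻¹ * ((a⁻¹ * x * a) * b) := by group
        _ = b⁻¹ * (b * (a⁻¹ * x * a)) := by rw [e1]
        _ = _ := by group
    rw [h5]
    exact h1 (LA.mul_mem (LA.mul_mem (LA.inv_mem ha) hx) ha)
  refine PiN.of_dvd hH ?_
  rw [← Cfsg.Agent.Solvable.SZ.card_conj_smul (a * b) H]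
  exact card_dvd_of_le (sup_le h4 h3)

/-- restriction to a subgroup containing the first factor -/
theorem sub {Z : Subgroup G} (h1 : LA ≤ Z) (h2 : KA ≤ Z) :
    PD π (LA.subgroupOf Z) (KA.subgroupOf Z) (LB.subgroupOf Z) (KB.subgroupOf Z) := by
  have hd : ∀ X : Subgroup G, Nat.card (X.subgroupOf Z) ∣ Nat.card X := by
    intro X
    rw [← card_map_of_injective Z.subtype_injective, subgroupOf_map_subtype]
    exact card_dvd_of_le inf_le_left
  refine ⟨h.la.of_dvd (hd _), h.ka.of_dvd (hd _), h.lb.of_dvd (hd _), h.kb.of_dvd (hd _), ?_, ?_, ?_⟩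
  · intro a ha b hb
    exact Subtype.ext (h.ca a ha b hb)
  · intro a ha b hb
    exact Subtype.ext (h.cb a ha b hb)
  · intro g
    obtain ⟨a, ha, b, hb, c, hc, d, hd', hg⟩ := h.prod g
    have hcd : c * d ∈ Z := by
      have : c * d = (a * b)⁻¹ * g := by rw [hg]; group
      rw [this]
      exact Z.mul_mem (Z.inv_mem (Z.mul_mem (h1 ha) (h2 hb))) g.2
    obtain ⟨hcZ, hdZ⟩ := split_mem h.lb h.kb h.cb hc hd' hcd
    exact ⟨⟨a, h1 ha⟩, ha, ⟨b, h2 hb⟩, hb, ⟨c, hcZ⟩, hc, ⟨d, hdZ⟩, hd', Subtype.ext hg⟩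

/-- quotients -/
theorem quot (N : Subgroup G) [N.Normal] :
    PD π (LA.map (QuotientGroup.mk' N)) (KA.map (QuotientGroup.mk' N)) (LB.map (QuotientGroup.mk' N))
      (KB.map (QuotientGroup.mk' N)) := by
  refine ⟨h.la.of_dvd (card_map_dvd _ _), h.ka.of_dvd (card_map_dvd _ _), h.lb.of_dvd (card_map_dvd _ _),
    h.kb.of_dvd (card_map_dvd _ _), ?_, ?_, ?_⟩
  · rintro _ ⟨a, ha, rfl⟩ _ ⟨b, hb, rfl⟩
    rw [← map_mul, ← map_mul, h.ca a ha b hb]
  · rintro _ ⟨a, ha, rfl⟩ _ ⟨b, hb, rfl⟩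
    rw [← map_mul, ← map_mul, h.cb a ha b hb]
  · intro g
    obtain ⟨g, rfl⟩ := QuotientGroup.mk'_surjective N g
    obtain ⟨a, ha, b, hb, c, hc, d, hd, rfl⟩ := h.prod g
    exact ⟨_, mem_map_of_mem _ ha, _, mem_map_of_mem _ hb, _, mem_map_of_mem _ hc, _, mem_map_of_mem _ hd,
      by simp only [map_mul]⟩

end PD

end Cfsg.Agent.H817.PD
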