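import Cfsg.Agent.H817.PD.Red
import Cfsg.Agent.H803.S74.Sys

/-!
# Products of two π-decomposable groups: the action on the simple factors (helper817, for S4246)

Counting lemmas for a non-abelian minimal normal subgroup `N = T 0 × … × T (m-1)`.
-/

set_option autoImplicit false
set_option linter.dupNamespace false
set_option linter.unusedSectionVars false
set_option linter.unusedVariables false

namespace Cfsg.Agent.H817.PD

open Subgroup Cfsg Cfsg.Agent.H988.CPi Cfsg.Agent.H803.S74
open scoped Pointwise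

universe u

section sys

variable {G : Type u} [Group G] {N : Subgroup G} [N.Normal] {m : ℕ} {T : Fin m → Subgroup G} {e : N ≃* ∀ i, T i}
  (h : Sys N T e) {σ : G →* Equiv.Perm (Fin m)} (hσ : ∀ g i, T (σ g i) = (T i).map (MulAut.conj g).toMonoidHom)
include h hσ

/-- equivariance of the coordinates -/
theorem coord (g : G) (i : Fin m) (n : N) :
    (e (MulAut.conjNormal g n) (σ g i) : G) = g * (e n i : G) * g⁻¹ := by
  classical
  -- a characterisation of coordinates
  have key : ∀ (n : N) (i : Fin m) (t : T i), (∀ s ∈ T i, Commute ((t : G)⁻¹ * n) s) → e n i = t := by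
    intro n i t hs
    have h1 : e (⟨t, h.le i t.2⟩ : N) = Pi.mulSingle i t := by
      apply e.symm.injective
      rw [MulEquiv.symm_apply_apply]
      exact Subtype.ext (h.single i t).symm
    have h2 : e ((⟨t, h.le i t.2⟩ : N)⁻¹ * n) i = 1 := by
      rw [h.one]
      intro s hs'
      exact hs s hs'
    rw [map_mul, map_inv, h1, Pi.mul_apply, Pi.inv_apply, Pi.mulSingle_eq_same] at h2
    exact (inv_mul_eq_one.1 h2).symm
  have key2 : ∀ (n : N) (i : Fin m), ∀ s ∈ T i, Commute (((e n i : T i) : G)⁻¹ * n) s := by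
    intro n i s hs
    have h1 : e (⟨e n i, h.le i (e n i).2⟩ : N) = Pi.mulSingle i (e n i) := by
      apply e.symm.injective
      rw [MulEquiv.symm_apply_apply]
      exact Subtype.ext (h.single i (e n i)).symm
    have h2 : e ((⟨e n i, h.le i (e n i).2⟩ : N)⁻¹ * n) i = 1 := by
      rw [map_mul, map_inv, h1, Pi.mul_apply, Pi.inv_apply, Pi.mulSingle_eq_same]
      simp
    exact (h.one _ i).1 h2 s hs
  have hmem : g * (e n i : G) * g⁻¹ ∈ T (σ g i) := Sys.mem_sigma hσ (e n i).2
  have := key (MulAut.conjNormal g n) (σ g i) ⟨g * (e n i : G) * g⁻¹, hmem⟩ ?_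
  · rw [this]
  · intro s hs
    rw [hσ] at hs
    obtain ⟨t, ht, rfl⟩ := hs
    have h3 := key2 n i t ht
    simp only [MulAut.conjNormal_apply, MulEquiv.coe_toMonoidHom, MulAut.conj_apply]
    have h4 : (g * (e n i : G) * g⁻¹)⁻¹ * (g * (n : G) * g⁻¹) = g * ((e n i : G)⁻¹ * n) * g⁻¹ := by group
    rw [h4]
    have h5 := h3.map (MulAut.conj g).toMonoidHom
    simpa using h5

/-- an element which centralises all factors centralises `N` -/
theorem mem_centralizer {g : G} (hg : ∀ i, ∀ t ∈ T i, g * t = t * g) : g ∈ Subgroup.centralizer (N : Set G) := by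
  have hfix : ∀ i, σ g i = i := by
    intro i
    rw [h.sigma_eq_iff hσ]
    intro x hx
    rw [hg i x hx, mul_inv_cancel_right]
    exact hx
  rw [mem_centralizer_iff]
  intro n hn
  have h1 : MulAut.conjNormal g (⟨n, hn⟩ : N) = ⟨n, hn⟩ := by
    apply e.injective
    funext i
    apply Subtype.ext
    have h2 := coord h hσ g i ⟨n, hn⟩
    rw [hfix i] at h2
    rw [h2, hg i _ (e ⟨n, hn⟩ i).2, mul_inv_cancel_right]
  have h2 : g * n * g⁻¹ = n := by
    have := congrArg Subtype.val h1
    rwa [MulAut.conjNormal_apply] at this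
  calc n * g = (g * n * g⁻¹) * g := by rw [h2]
    _ = g * n := by group

variable [Finite G]

theorem card_T (i j : Fin m) : Nat.card (T i) = Nat.card (T j) := by
  obtain ⟨g, hg⟩ := h.tr i j
  rw [hg]
  exact (card_map_of_injective (f := (MulAut.conj g).toMonoidHom) (MulAut.conj g).injective).symm

theorem card_aut (i j : Fin m) : Nat.card (MulAut (T i)) = Nat.card (MulAut (T j)) := by
  obtain ⟨g, hg⟩ := h.tr i j
  have e1 : T i ≃* T j := ((T i).equivMapOfInjective (MulAut.conj g).toMonoidHom (MulAut.conj g).injective).trans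
    (MulEquiv.subgroupCongr hg.symm)
  exact Nat.card_congr (MulAut.congr e1).toEquiv

theorem card_N (i : Fin m) : Nat.card N = Nat.card (T i) ^ m := by
  rw [Nat.card_congr e.toEquiv, Nat.card_pi]
  rw [Finset.prod_congr rfl (fun j _ => card_T h hσ j i)]
  rw [Finset.prod_const, Finset.card_univ, Fintype.card_fin]

/-- `X ≤ N` centralised by `L`: at most one coordinate for each orbit of `L`. -/
theorem card_dvd_orbits (i0 : Fin m) {X L : Subgroup G} (hX : X ≤ N) (hc : ∀ a ∈ L, ∀ b ∈ X, a * b = b * a)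
    {O : Type} [Finite O] (p : Fin m → O) (r : O → Fin m) (hr : ∀ i, ∃ y ∈ L, σ y (r (p i)) = i) :
    Nat.card X ∣ Nat.card (T i0) ^ Nat.card O := by
  cases nonempty_fintype O
  let f : X →* ∀ o : O, T (r o) :=
    { toFun := fun x o => e ⟨x, hX x.2⟩ (r o)
      map_one' := by
        funext o
        have : (⟨((1 : X) : G), hX (1 : X).2⟩ : N) = 1 := rfl
        rw [this, map_one]; rfl
      map_mul' := fun x y => by
        funext o
        have : (⟨((x * y : X) : G), hX (x * y).2⟩ : N) = ⟨x, hX x.2⟩ * ⟨y, hX y.2⟩ := rfl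
        rw [this, map_mul]; rfl }
  have hf : Function.Injective f := by
    rw [injective_iff_map_eq_one]
    intro x hx
    have h1 : e ⟨x, hX x.2⟩ = 1 := by
      funext i
      obtain ⟨y, hy, hyi⟩ := hr i
      have h2 := coord h hσ y (r (p i)) ⟨x, hX x.2⟩
      have h3 : MulAut.conjNormal y (⟨x, hX x.2⟩ : N) = ⟨x, hX x.2⟩ := by
        apply Subtype.ext
        rw [MulAut.conjNormal_apply]
        show y * x * y⁻¹ = x
        rw [hc y hy x x.2, mul_inv_cancel_right]
      rw [h3, hyi] at h2
      have h4 : e ⟨x, hX x.2⟩ (r (p i)) = 1 := congrFun hx (p i)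
      rw [h4] at h2
      apply Subtype.ext
      rw [h2]
      simp
    have h2 : (⟨x, hX x.2⟩ : N) = 1 := e.injective (by rw [h1, map_one])
    exact Subtype.ext (congrArg (fun z : N => (z : G)) h2)
  have h1 := Subgroup.card_dvd_of_injective f hf
  rw [Nat.card_pi, Finset.prod_congr rfl (fun o _ => card_T h hσ (r o) i0), Finset.prod_const, Finset.card_univ,
    ← Nat.card_eq_fintype_card] at h1
  exact h1

end sys

/-- several homomorphisms with trivial common kernel -/
theorem card_dvd_pow {X M : Type*} [Group X] [Group M] {ι : Type*} [Finite ι] (f : ι → X →* M)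
    (hf : ∀ x, (∀ i, f i x = 1) → x = 1) : Nat.card X ∣ Nat.card M ^ Nat.card ι := by
  cases nonempty_fintype ι
  have h1 : Function.Injective (MonoidHom.pi f) := by
    rw [injective_iff_map_eq_one]
    intro x hx
    exact hf x fun i => congrFun hx i
  have h2 := Subgroup.card_dvd_of_injective (MonoidHom.pi f) h1
  rwa [Nat.card_pi, Finset.prod_const, Finset.card_univ, ← Nat.card_eq_fintype_card] at h2

/-- the orbits of `L` on the factors, with representatives -/
structure Orb {G : Type u} [Group G] {m : ℕ} (σ : G →* Equiv.Perm (Fin m)) (L : Subgroup G) {O : Type}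
    (p : Fin m → O) (r : O → Fin m) : Prop where
  pr : ∀ o, p (r o) = o
  eq : ∀ i j, p i = p j ↔ ∃ y ∈ L, σ y i = j

theorem exists_orb {G : Type u} [Group G] {m : ℕ} (σ : G →* Equiv.Perm (Fin m)) (L : Subgroup G) :
    ∃ (O : Type) (_ : Finite O) (p : Fin m → O) (r : O → Fin m), Orb σ L p r := by
  let s : Setoid (Fin m) :=
    { r := fun i j => ∃ y ∈ L, σ y i = j
      iseqv :=
        { refl := fun i => ⟨1, one_mem L, by rw [map_one]; rfl⟩
          symm := by
            rintro i j ⟨y, hy, rfl⟩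
            refine ⟨y⁻¹, inv_mem hy, ?_⟩
            rw [map_inv, Equiv.Perm.inv_def, Equiv.symm_apply_apply]
          trans := by
            rintro i j k ⟨y, hy, rfl⟩ ⟨z, hz, rfl⟩
            exact ⟨z * y, mul_mem hz hy, by rw [map_mul]; rfl⟩ } }
  refine ⟨Quotient s, inferInstance, Quotient.mk s, Quotient.out, ?_, ?_⟩
  · intro o
    exact Quotient.out_eq o
  · intro i j
    exact Quotient.eq (r := s)

section two

variable {G : Type u} [Group G] [Finite G] {N : Subgroup G} [N.Normal] {m : ℕ} {T : Fin m → Subgroup G}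
  {e : N ≃* ∀ i, T i}
  (h : Sys N T e) {σ : G →* Equiv.Perm (Fin m)} (hσ : ∀ g i, T (σ g i) = (T i).map (MulAut.conj g).toMonoidHom)
include h hσ

theorem ker_le_normalizer (i : Fin m) : σ.ker ≤ normalizer (T i : Set G) := by
  intro x hx
  rw [MonoidHom.mem_ker] at hx
  have h1 : ∀ y ∈ T i, x * y * x⁻¹ ∈ T i := by
    have : σ x i = i := by rw [hx]; rfl
    exact (h.sigma_eq_iff hσ).1 this
  have hx' : σ x⁻¹ = 1 := by rw [map_inv, hx, inv_one]
  have h2 : ∀ y ∈ T i, x⁻¹ * y * x⁻¹⁻¹ ∈ T i := by
    have : σ x⁻¹ i = i := by rw [hx']; rfl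
    exact (h.sigma_eq_iff hσ).1 this
  rw [mem_normalizer_iff]
  intro y
  constructor
  · exact h1 y
  · intro hy
    have := h2 _ hy
    simpa [mul_assoc] using this

/-- the action of the kernel of `σ` on the `i`-th factor -/
noncomputable def psi (i : Fin m) : σ.ker →* MulAut (T i) :=
  (T i).normalizerMonoidHom.comp (Subgroup.inclusion (ker_le_normalizer h hσ i))

theorem psi_apply (i : Fin m) (x : σ.ker) (t : T i) : ((psi h hσ i x t : T i) : G) = x * t * (x : G)⁻¹ := rfl

/-- the action conjugated by `g` -/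
noncomputable def psiG (i : Fin m) (g : G) : σ.ker →* MulAut (T i) :=
  (psi h hσ i).comp (MulAut.conjNormal (H := σ.ker) g⁻¹).toMonoidHom

theorem psiG_apply (i : Fin m) (g : G) (x : σ.ker) (t : T i) :
    ((psiG h hσ i g x t : T i) : G) = (g⁻¹ * x * g) * t * (g⁻¹ * x * g)⁻¹ := by
  show ((psi h hσ i (MulAut.conjNormal (H := σ.ker) g⁻¹ x) t : T i) : G) = _
  rw [psi_apply, MulAut.conjNormal_apply, inv_inv]

theorem psiG_eq_one (i : Fin m) (g : G) (x : σ.ker) (hx : psiG h hσ i g x = 1) :
    ∀ t ∈ T (σ g i), (x : G) * t = t * x := by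
  intro t ht
  rw [hσ] at ht
  obtain ⟨s, hs, rfl⟩ := ht
  have h1 := psiG_apply h hσ i g x ⟨s, hs⟩
  rw [hx] at h1
  have h2 : s = (g⁻¹ * x * g) * s * (g⁻¹ * x * g)⁻¹ := h1
  show (x : G) * (g * s * g⁻¹) = (g * s * g⁻¹) * x
  have h3 : s * (g⁻¹ * x * g) = (g⁻¹ * x * g) * s := by
    calc s * (g⁻¹ * x * g) = ((g⁻¹ * x * g) * s * (g⁻¹ * x * g)⁻¹) * (g⁻¹ * x * g) := by rw [← h2]
      _ = _ := by group
  calc (x : G) * (g * s * g⁻¹) = g * ((g⁻¹ * x * g) * s) * g⁻¹ := by group
    _ = g * (s * (g⁻¹ * x * g)) * g⁻¹ := by rw [h3]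
    _ = _ := by group

/-- the 2-part of a group commuting with `L` -/
theorem two_part (i0 : Fin m) {L K : Subgroup G} (hL : ¬ 2 ∣ Nat.card L) (hc : ∀ a ∈ L, ∀ b ∈ K, a * b = b * a)
    (hcent : Subgroup.centralizer (N : Set G) = ⊥) {O : Type} [Finite O] {p : Fin m → O} {r : O → Fin m}
    (ho : Orb σ L p r) :
    (Nat.card K).factorization 2 + 1 ≤ Nat.card O * (1 + (Nat.card (MulAut (T i0))).factorization 2) := by
  classical
  cases nonempty_fintype O
  have hF : Fact (Nat.Prime 2) := ⟨Nat.prime_two⟩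
  obtain ⟨Q0⟩ : Nonempty (Sylow 2 K) := inferInstance
  set Q : Subgroup G := (Q0 : Subgroup K).map K.subtype with hQ
  have hQK : Q ≤ K := map_subtype_le _
  have hcQ : Nat.card Q = 2 ^ (Nat.card K).factorization 2 := by
    rw [hQ, card_map_of_injective K.subtype_injective]
    exact Q0.card_eq_multiplicity
  -- elements of `Q` permute the orbits
  have hperm : ∀ k ∈ K, ∀ i j, p i = p j → p (σ k i) = p (σ k j) := by
    intro k hk i j hij
    obtain ⟨y, hy, rfl⟩ := (ho.eq i j).1 hij
    rw [ho.eq]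
    refine ⟨y, hy, ?_⟩
    have := congrArg σ (hc y hy k hk)
    rw [map_mul, map_mul] at this
    exact congrArg (fun z => z i) this
  let F : K → O → O := fun k o => p (σ (k : G) (r o))
  have F1 : ∀ o, F 1 o = o := by
    intro o
    show p (σ ((1 : K) : G) (r o)) = o
    rw [OneMemClass.coe_one, map_one]
    exact ho.pr o
  have Fm : ∀ a b o, F (a * b) o = F a (F b o) := by
    intro a b o
    show p (σ ((a * b : K) : G) (r o)) = p (σ (a : G) (r (p (σ (b : G) (r o)))))
    rw [Subgroup.coe_mul, map_mul]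
    exact hperm a a.2 _ _ (ho.pr _).symm
  let ρ : K →* Equiv.Perm O :=
    { toFun := fun k => ⟨F k, F k⁻¹, fun o => by rw [← Fm, inv_mul_cancel, F1], fun o => by
        rw [← Fm, mul_inv_cancel, F1]⟩
      map_one' := Equiv.ext F1
      map_mul' := fun a b => Equiv.ext (Fm a b) }
  have hρ : ∀ k o, ρ k o = p (σ (k : G) (r o)) := fun k o => rfl
  let ρQ : Q →* Equiv.Perm O := ρ.comp (Subgroup.inclusion hQK)
  have hker : ∀ x : ρQ.ker, ((x : Q) : G) ∈ σ.ker := by
    intro x
    have hx : ρQ x = 1 := x.2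
    rw [MonoidHom.mem_ker]
    ext i
    -- `x` moves `i` within its `L`-orbit
    have h1 : p (σ ((x : Q) : G) i) = p i := by
      have h2 : p (σ ((x : Q) : G) (r (p i))) = p i := by
        have := congrArg (fun z : Equiv.Perm O => z (p i)) hx
        exact this
      rw [← h2]
      exact hperm _ (hQK (x : Q).2) _ _ (ho.pr _).symm
    obtain ⟨y, hy, hyi⟩ := (ho.eq _ _).1 h1.symm
    -- powers
    have h3 : ∀ n : ℕ, σ (((x : Q) : G) ^ n) i = σ (y ^ n) i := by
      intro n
      induction n with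
      | zero => simp
      | succ n ih =>
        have hcom : ((x : Q) : G) * y ^ n = y ^ n * ((x : Q) : G) :=
          (hc (y ^ n) (pow_mem hy n) _ (hQK (x : Q).2)).symm
        calc σ (((x : Q) : G) ^ (n + 1)) i = σ ((x : Q) : G) (σ (((x : Q) : G) ^ n) i) := by
              rw [pow_succ', map_mul]; rfl
          _ = σ ((x : Q) : G) (σ (y ^ n) i) := by rw [ih]
          _ = σ (((x : Q) : G) * y ^ n) i := by rw [map_mul]; rfl
          _ = σ (y ^ n * ((x : Q) : G)) i := by rw [hcom]
          _ = σ (y ^ n) (σ ((x : Q) : G) i) := by rw [map_mul]; rfl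
          _ = σ (y ^ n) (σ y i) := by rw [hyi]
          _ = σ (y ^ (n + 1)) i := by rw [pow_succ, map_mul]; rfl
    -- coprimality
    have h4 : Nat.Coprime (orderOf ((x : Q) : G)) (orderOf y) := by
      have h5 : orderOf ((x : Q) : G) ∣ 2 ^ (Nat.card K).factorization 2 := by
        rw [← hcQ]; exact Subgroup.orderOf_dvd_natCard Q (x : Q).2
      refine Nat.Coprime.coprime_dvd_left h5 (Nat.Coprime.pow_left _ ?_)
      rw [Nat.Prime.coprime_iff_not_dvd Nat.prime_two]
      intro h6
      exact hL (h6.trans (Subgroup.orderOf_dvd_natCard L hy))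
    obtain ⟨n, hn1, hn2⟩ := Nat.chineseRemainder h4 1 0
    have h5 := h3 n
    have h6 : ((x : Q) : G) ^ n = ((x : Q) : G) := by
      have := pow_eq_pow_iff_modEq.2 hn1
      rwa [pow_one] at this
    have h7 : y ^ n = 1 := by
      have := pow_eq_pow_iff_modEq.2 hn2
      rwa [pow_zero] at this
    rw [h6, h7, map_one] at h5
    rw [h5]
  -- the kernel embeds in a product of automorphism groups
  choose g hg using fun i => h.tr i0 i
  have hgσ : ∀ i, σ (g i) i0 = i := by
    intro i
    apply h.inj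
    rw [hσ]
    exact (hg i).symm
  let j : ρQ.ker →* σ.ker :=
    { toFun := fun x => ⟨((x : Q) : G), hker x⟩
      map_one' := rfl
      map_mul' := fun _ _ => rfl }
  have h1 : Nat.card ρQ.ker ∣ Nat.card (MulAut (T i0)) ^ Nat.card O := by
    refine card_dvd_pow (fun o : O => (psiG h hσ i0 (g (r o))).comp j) ?_
    intro x hx
    have h2 : ∀ o, ∀ t ∈ T (r o), ((x : Q) : G) * t = t * ((x : Q) : G) := by
      intro o
      have := psiG_eq_one h hσ i0 (g (r o)) (j x) (hx o)
      rw [hgσ] at this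
      exact this
    have h3 : ((x : Q) : G) ∈ Subgroup.centralizer (N : Set G) := by
      apply mem_centralizer h hσ
      intro i t ht
      obtain ⟨y, hy, hyi⟩ := (ho.eq (r (p i)) i).1 (ho.pr (p i))
      rw [← hyi, hσ] at ht
      obtain ⟨s, hs, rfl⟩ := ht
      have h4 := h2 (p i) s hs
      have h5 : ((x : Q) : G) * y = y * ((x : Q) : G) := (hc y hy _ (hQK (x : Q).2)).symm
      have h6 : ((x : Q) : G) * y⁻¹ = y⁻¹ * ((x : Q) : G) := (hc y⁻¹ (inv_mem hy) _ (hQK (x : Q).2)).symm
      show ((x : Q) : G) * (y * s * y⁻¹) = (y * s * y⁻¹) * ((x : Q) : G)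
      calc ((x : Q) : G) * (y * s * y⁻¹) = (((x : Q) : G) * y) * s * y⁻¹ := by group
        _ = y * (((x : Q) : G) * s) * y⁻¹ := by rw [h5]; group
        _ = y * s * (((x : Q) : G) * y⁻¹) := by rw [h4]; group
        _ = _ := by rw [h6]; group
    rw [hcent, mem_bot] at h3
    exact Subtype.ext (Subtype.ext h3)
  have h2 : Nat.card Q = Nat.card ρQ.range * Nat.card ρQ.ker := by
    have h3 := card_mul_index ρQ.ker
    rw [index_ker] at h3
    rw [← h3, mul_comm]
  have hO : Nat.card O ≠ 0 := by
    have : Nonempty O := ⟨p i0⟩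
    exact Nat.card_pos.ne'
  have h3 : Nat.card ρQ.range ∣ (Nat.card O).factorial := by
    have := card_subgroup_dvd_card ρQ.range
    rwa [Nat.card_perm] at this
  have h4 : (Nat.card ρQ.range).factorization 2 < Nat.card O := by
    have h5 := (Nat.factorization_le_iff_dvd Nat.card_pos.ne' (Nat.factorial_ne_zero _)).2 h3 2
    have h6 := padicValNat_factorial_lt_of_ne_zero 2 hO
    rw [← Nat.factorization_def _ Nat.prime_two] at h6
    omega
  have h5 : (Nat.card ρQ.ker).factorization 2 ≤ Nat.card O * (Nat.card (MulAut (T i0))).factorization 2 := by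
    have h6 := (Nat.factorization_le_iff_dvd Nat.card_pos.ne' (pow_ne_zero _ Nat.card_pos.ne')).2 h1 2
    rwa [Nat.factorization_pow, Finsupp.smul_apply, smul_eq_mul] at h6
  have h6 : (Nat.card K).factorization 2 =
      (Nat.card ρQ.range).factorization 2 + (Nat.card ρQ.ker).factorization 2 := by
    have h7 := congrArg (fun n => n.factorization 2) h2
    simp only [hcQ] at h7
    rw [Nat.factorization_mul Nat.card_pos.ne' Nat.card_pos.ne', Finsupp.add_apply,
      Nat.Prime.factorization_pow Nat.prime_two, Finsupp.single_eq_same] at h7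
    exact h7
  rw [h6]
  calc _ ≤ Nat.card O + Nat.card O * (Nat.card (MulAut (T i0))).factorization 2 := by omega
    _ = _ := by ring

end two

end Cfsg.Agent.H817.PD
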