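import Cfsg.Agent.H817.PD.RowRed
import Cfsg.Prelude.Def_HallClasses

/-!
# Products of two π-decomposable groups: the reduction of S4246 (helper817)

`S4246_of` : S4246 from S4350 (`Gross π`), the rows `Row S` and the 2-part of `Aut S` (`OutTwo S`).
-/

set_option autoImplicit false
set_option linter.dupNamespace false
set_option linter.unusedSectionVars false
set_option linter.unusedVariables false

namespace Cfsg.Agent.H817.PD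

open Subgroup Cfsg Cfsg.Agent.H988.CPi
open Cfsg.Agent.H160.PD (tr Cfg Row)
open scoped Pointwise

universe u

theorem piN'_of {π : Set ℕ} {G : Type u} [Group G] {H : Subgroup G}
    (h : Cfsg.IsPiSubgroup {p | p.Prime ∧ p ∉ π} H) : PiN' π (Nat.card H) := by
  intro p hp hpi hd
  exact (h p hp hd).2 hpi

/-- the hypotheses of S4246 -/
theorem pd_of {G : Type u} [Group G] (π : Set ℕ) (A B Aπ Aπ' Bπ Bπ' : Subgroup G)
    (hG : (A : Set G) * (B : Set G) = Set.univ) (hA3 : Aπ ⊔ Aπ' = A)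
    (hA4 : ∀ a ∈ Aπ, ∀ b ∈ Aπ', a * b = b * a) (hA5 : Cfsg.IsPiSubgroup π Aπ)
    (hA6 : Cfsg.IsPiSubgroup {p | p.Prime ∧ p ∉ π} Aπ') (hB3 : Bπ ⊔ Bπ' = B)
    (hB4 : ∀ a ∈ Bπ, ∀ b ∈ Bπ', a * b = b * a) (hB5 : Cfsg.IsPiSubgroup π Bπ)
    (hB6 : Cfsg.IsPiSubgroup {p | p.Prime ∧ p ∉ π} Bπ') : PD π Aπ Aπ' Bπ Bπ' := by
  refine ⟨hA5, piN'_of hA6, hB5, piN'_of hB6, hA4, hB4, fun g => ?_⟩
  have hg : g ∈ (A : Set G) * (B : Set G) := by rw [hG]; trivial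
  obtain ⟨a, ha, b, hb, rfl⟩ := hg
  rw [SetLike.mem_coe, ← hA3, mem_sup_comm hA4] at ha
  rw [SetLike.mem_coe, ← hB3, mem_sup_comm hB4] at hb
  obtain ⟨a1, h1, a2, h2, rfl⟩ := ha
  obtain ⟨b1, h3, b2, h4, rfl⟩ := hb
  exact ⟨a1, h1, a2, h2, b1, h3, b2, h4, rfl⟩

/-- the theorem for `PD` -/
theorem PD.good {G : Type u} [Group G] [Finite G] {π : Set ℕ} (h2 : 2 ∉ π) (hGr : Gross.{u} π)
    (hRow : ∀ (S : Type u) [Group S] [Finite S] [IsSimpleGroup S], ¬ IsMulCommutative S → Row S)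
    (hOut : ∀ (S : Type u) [Group S] [Finite S] [IsSimpleGroup S], ¬ IsMulCommutative S → OutTwo S)
    {LA KA LB KB : Subgroup G} (h : PD π LA KA LB KB) :
    ((LA ⊔ LB : Subgroup G) : Set G) = (LA : Set G) * (LB : Set G) ∧ IsPiHall π (LA ⊔ LB) := by
  have hg := main h2 hGr hRow hOut (Nat.card G + 1) G (Nat.lt_succ_self _) LA KA LB KB h
  exact ⟨h.coe_sup hg, h.hall hg⟩

/-- **S4246** from S4350, the rows and the 2-part of `Aut S` -/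
theorem S4246_of
    (hGr : ∀ π : Set ℕ, 2 ∉ π → Gross.{u} π)
    (hRow : ∀ (S : Type u) [Group S] [Finite S] [IsSimpleGroup S], ¬ IsMulCommutative S → Row S)
    (hOut : ∀ (S : Type u) [Group S] [Finite S] [IsSimpleGroup S], ¬ IsMulCommutative S → OutTwo S)
    {G : Type u} [Group G] [Finite G] (π : Set ℕ) (hπ : ∀ p ∈ π, p.Prime ∧ p ≠ 2)
    (A B Aπ Aπ' Bπ Bπ' : Subgroup G) (hG : (A : Set G) * (B : Set G) = Set.univ)
    (hA1 : Aπ ≤ A) (hA2 : Aπ' ≤ A) (hA3 : Aπ ⊔ Aπ' = A)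
    (hA4 : ∀ a ∈ Aπ, ∀ b ∈ Aπ', a * b = b * a) (hA5 : Cfsg.IsPiSubgroup π Aπ)
    (hA6 : Cfsg.IsPiSubgroup {p | p.Prime ∧ p ∉ π} Aπ')
    (hB1 : Bπ ≤ B) (hB2 : Bπ' ≤ B) (hB3 : Bπ ⊔ Bπ' = B)
    (hB4 : ∀ a ∈ Bπ, ∀ b ∈ Bπ', a * b = b * a) (hB5 : Cfsg.IsPiSubgroup π Bπ)
    (hB6 : Cfsg.IsPiSubgroup {p | p.Prime ∧ p ∉ π} Bπ') :
    ∃ H : Subgroup G, (H : Set G) = (Aπ : Set G) * (Bπ : Set G) ∧ Cfsg.IsPiHall π H := by
  have h2 : 2 ∉ π := fun h => (hπ 2 h).2 rfl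
  have h := pd_of π A B Aπ Aπ' Bπ Bπ' hG hA3 hA4 hA5 hA6 hB3 hB4 hB5 hB6
  exact ⟨Aπ ⊔ Bπ, h.good h2 (hGr π h2) hRow hOut⟩

end Cfsg.Agent.H817.PD
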