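import Cfsg.Agent.H817.PD.Count

/-!
# Products of two π-decomposable groups: `LA` and `LB` fix all simple factors (helper817, for S4246)
-/

set_option autoImplicit false
set_option linter.dupNamespace false
set_option linter.unusedSectionVars false
set_option linter.unusedVariables false

namespace Cfsg.Agent.H817.PD

open Subgroup Cfsg Cfsg.Agent.H988.CPi Cfsg.Agent.H803.S74
open scoped Pointwise

universe u

variable {π : Set ℕ}

namespace PD

variable {G : Type u} [Group G] [Finite G] {LA KA LB KB : Subgroup G} (h : PD π LA KA LB KB)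
include h

theorem card_inf (N : Subgroup G) : Nat.card ↥(N ⊓ (LB ⊔ KB)) = Nat.card ↥(LB ⊓ N) * Nat.card ↥(KB ⊓ N) := by
  have h1 : N ⊓ (LB ⊔ KB) = (LB ⊓ N) ⊔ (KB ⊓ N) := by
    apply le_antisymm
    · rintro x ⟨hxN, hx⟩
      obtain ⟨c, hc, d, hd, rfl⟩ := (mem_sup_comm h.cb).1 hx
      obtain ⟨h2, h3⟩ := split_mem h.lb h.kb h.cb hc hd hxN
      exact mul_mem_sup ⟨hc, h2⟩ ⟨hd, h3⟩
    · exact sup_le (le_inf inf_le_right (inf_le_left.trans le_sup_left))
        (le_inf inf_le_right (inf_le_left.trans le_sup_right))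
  rw [h1, card_sup (π := π) (h.lb.of_dvd (card_dvd_of_le inf_le_left)) (h.kb.of_dvd (card_dvd_of_le inf_le_left))]
  intro a ha b hb
  exact h.cb a ha.1 b hb.1

theorem card_dvd (N : Subgroup G) [N.Normal] :
    Nat.card N ∣ Nat.card LA * Nat.card KA * (Nat.card ↥(LB ⊓ N) * Nat.card ↥(KB ⊓ N)) := by
  have e1 := h.card_mul
  have e2 := card_eq_rel (LB ⊔ KB) N
  rw [h.card_B, h.card_inf N] at e2
  obtain ⟨c, hc⟩ := relIndex_dvd_index_of_normal N (LB ⊔ KB)
  have e3 := N.card_mul_index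
  have h0 : N.relIndex (LB ⊔ KB) ≠ 0 := by
    rw [← card_map_mk]; exact Nat.card_pos.ne'
  refine ⟨c * (Nat.card ↥(LA ⊓ LB) * Nat.card ↥(KA ⊓ KB)), ?_⟩
  apply Nat.eq_of_mul_eq_mul_right (Nat.pos_of_ne_zero h0)
  rw [← e3, hc, e2] at e1
  calc _ = Nat.card LA * Nat.card KA * (Nat.card ↥(LB ⊓ N) * Nat.card ↥(KB ⊓ N) * N.relIndex (LB ⊔ KB)) := by
        ring
    _ = _ := by rw [← e1]; ring

theorem num_pi (N : Subgroup G) [N.Normal] {r : ℕ} (hr : r.Prime) (hrπ : r ∈ π) :
    (Nat.card N).factorization r ≤ (Nat.card LA).factorization r + (Nat.card ↥(LB ⊓ N)).factorization r := by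
  have h1 := (Nat.factorization_le_iff_dvd Nat.card_pos.ne'
    (Nat.mul_ne_zero (Nat.mul_ne_zero Nat.card_pos.ne' Nat.card_pos.ne')
      (Nat.mul_ne_zero Nat.card_pos.ne' Nat.card_pos.ne'))).2 (h.card_dvd N) r
  rw [Nat.factorization_mul (Nat.mul_ne_zero Nat.card_pos.ne' Nat.card_pos.ne')
    (Nat.mul_ne_zero Nat.card_pos.ne' Nat.card_pos.ne'), Nat.factorization_mul Nat.card_pos.ne' Nat.card_pos.ne',
    Nat.factorization_mul Nat.card_pos.ne' Nat.card_pos.ne'] at h1
  simp only [Finsupp.add_apply] at h1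
  have h2 : (Nat.card KA).factorization r = 0 := Nat.factorization_eq_zero_of_not_dvd (h.ka r hr hrπ)
  have h3 : (Nat.card ↥(KB ⊓ N)).factorization r = 0 :=
    Nat.factorization_eq_zero_of_not_dvd fun hd => h.kb r hr hrπ (hd.trans (card_dvd_of_le inf_le_left))
  omega

theorem num_pi' (N : Subgroup G) [N.Normal] {r : ℕ} (hr : r.Prime) (hrπ : r ∉ π) :
    (Nat.card N).factorization r ≤ (Nat.card KA).factorization r + (Nat.card ↥(KB ⊓ N)).factorization r := by
  have h1 := (Nat.factorization_le_iff_dvd Nat.card_pos.ne'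
    (Nat.mul_ne_zero (Nat.mul_ne_zero Nat.card_pos.ne' Nat.card_pos.ne')
      (Nat.mul_ne_zero Nat.card_pos.ne' Nat.card_pos.ne'))).2 (h.card_dvd N) r
  rw [Nat.factorization_mul (Nat.mul_ne_zero Nat.card_pos.ne' Nat.card_pos.ne')
    (Nat.mul_ne_zero Nat.card_pos.ne' Nat.card_pos.ne'), Nat.factorization_mul Nat.card_pos.ne' Nat.card_pos.ne',
    Nat.factorization_mul Nat.card_pos.ne' Nat.card_pos.ne'] at h1
  simp only [Finsupp.add_apply] at h1
  have h2 : (Nat.card LA).factorization r = 0 :=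
    Nat.factorization_eq_zero_of_not_dvd fun hd => hrπ (h.la r hr hd)
  have h3 : (Nat.card ↥(LB ⊓ N)).factorization r = 0 :=
    Nat.factorization_eq_zero_of_not_dvd fun hd => hrπ (h.lb r hr (hd.trans (card_dvd_of_le inf_le_left)))
  omega

end PD

section comb

/-- each orbit of `LB` contains a non-trivial orbit of `LA` -/
theorem orbits_le {G : Type u} [Group G] [Finite G] {m : ℕ} {σ : G →* Equiv.Perm (Fin m)} {LA LB : Subgroup G}
    (hodd : ¬ 2 ∣ Nat.card LA) {OA OB : Type} [Finite OA] [Finite OB] {pA : Fin m → OA} {rA : OA → Fin m}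
    {pB : Fin m → OB} {rB : OB → Fin m} (hA : Orb σ LA pA rA) (hB : Orb σ LB pB rB)
    (hle : ∀ x ∈ LA, ∃ y ∈ LB, σ x = σ y) {x : G} (hx : x ∈ LA)
    (hmove : ∀ o : OB, ∃ j, pB j = o ∧ σ x j ≠ j) : Nat.card OA + 2 * Nat.card OB ≤ m := by
  classical
  cases nonempty_fintype OA
  cases nonempty_fintype OB
  have hsame : ∀ y ∈ LA, ∀ j, pA (σ y j) = pA j := fun y hy j => ((hA.eq j _).2 ⟨y, hy, rfl⟩).symm
  have hsameB : ∀ y ∈ LA, ∀ j, pB (σ y j) = pB j := by
    intro y hy j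
    obtain ⟨z, hz, hyz⟩ := hle y hy
    exact ((hB.eq j _).2 ⟨z, hz, by rw [hyz]⟩).symm
  have key : ∀ o : OB, ∃ b c : Fin m, pB b = o ∧ pB c = o ∧ b ≠ c ∧ b ≠ rA (pA b) ∧ c ≠ rA (pA c) := by
    intro o
    obtain ⟨j, hj, hxj⟩ := hmove o
    -- three points
    have h1 : σ x (σ x j) ≠ σ x j := fun h2 => hxj ((σ x).injective h2)
    have h2 : σ x (σ x j) ≠ j := by
      intro h3
      apply hxj
      -- the order of `x` is odd
      have hodd' : ¬ 2 ∣ orderOf x := fun hd => hodd (hd.trans (Subgroup.orderOf_dvd_natCard LA hx))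
      obtain ⟨k, hk⟩ : Odd (orderOf x) := by
        rw [← Nat.not_even_iff_odd, even_iff_two_dvd]; exact hodd'
      have h4 : ∀ n : ℕ, σ (x ^ (2 * n)) j = j := by
        intro n
        induction n with
        | zero => simp
        | succ n ih =>
          rw [show 2 * (n + 1) = 2 * n + 1 + 1 by ring, pow_succ, pow_succ, map_mul, map_mul]
          show σ (x ^ (2 * n)) (σ x (σ x j)) = j
          rw [h3, ih]
      have h5 : σ (x ^ orderOf x) j = j := by rw [pow_orderOf_eq_one, map_one]; rfl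
      rw [hk, pow_succ', map_mul] at h5
      have h6 : σ x (σ (x ^ (2 * k)) j) = j := h5
      rwa [h4] at h6
    have a1 : pA (σ x j) = pA j := hsame x hx j
    have a2 : pA (σ x (σ x j)) = pA j := by rw [hsame x hx, a1]
    have b1 : pB (σ x j) = o := by rw [hsameB x hx, hj]
    have b2 : pB (σ x (σ x j)) = o := by rw [hsameB x hx, b1]
    by_cases c0 : j = rA (pA j)
    · refine ⟨σ x j, σ x (σ x j), b1, b2, h1.symm, ?_, ?_⟩
      · rw [a1, ← c0]; exact hxj
      · rw [a2, ← c0]; exact h2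
    · by_cases c1 : σ x j = rA (pA j)
      · refine ⟨j, σ x (σ x j), hj, b2, h2.symm, c0, ?_⟩
        rw [a2, ← c1]; exact h1
      · exact ⟨j, σ x j, hj, b1, hxj.symm, c0, by rw [a1]; exact c1⟩
  choose b c hb hc hbc hb' hc' using key
  let Φ : OA ⊕ (OB ⊕ OB) → Fin m := Sum.elim rA (Sum.elim b c)
  have hΦ : Function.Injective Φ := by
    rintro (q | o | o) (q' | o' | o') hq
    · have : rA q = rA q' := hq
      rw [← hA.pr q, ← hA.pr q', this]
    · exfalso
      have h1 : rA q = b o' := hq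
      exact hb' o' (by rw [← h1, hA.pr])
    · exfalso
      have h1 : rA q = c o' := hq
      exact hc' o' (by rw [← h1, hA.pr])
    · exfalso
      have h1 : b o = rA q' := hq
      exact hb' o (by rw [h1, hA.pr])
    · have h1 : b o = b o' := hq
      have h2 : o = o' := by rw [← hb o, ← hb o', h1]
      rw [h2]
    · exfalso
      have h1 : b o = c o' := hq
      have h2 : o = o' := by rw [← hb o, ← hc o', h1]
      subst h2
      exact hbc o h1
    · exfalso
      have h1 : c o = rA q' := hq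
      exact hc' o (by rw [h1, hA.pr])
    · exfalso
      have h1 : c o = b o' := hq
      have h2 : o = o' := by rw [← hc o, ← hb o', h1]
      subst h2
      exact hbc o h1.symm
    · have h1 : c o = c o' := hq
      have h2 : o = o' := by rw [← hc o, ← hc o', h1]
      rw [h2]
  have h1 := Fintype.card_le_of_injective Φ hΦ
  rw [Fintype.card_sum, Fintype.card_sum, Fintype.card_fin] at h1
  rw [Nat.card_eq_fintype_card, Nat.card_eq_fintype_card]
  omega

end comb

section main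

variable {G : Type u} [Group G] [Finite G] {LA KA LB KB N : Subgroup G} {m : ℕ} {T : Fin m → Subgroup G}
  {e : N ≃* ∀ i, T i}

namespace MinCex

theorem exists_mul (hm : MinCex π LA KA LB KB N) (g : G) : ∃ l ∈ LB, ∃ k ∈ KB, ∃ n ∈ N, g = l * k * n := by
  have := hm.normal
  have hg : g ∈ LB ⊔ KB ⊔ N := by rw [hm.top]; exact mem_top g
  obtain ⟨b, hb, n, hn, rfl⟩ := (mem_sup_of_normal_right).1 hg
  obtain ⟨l, hl, k, hk, rfl⟩ := (mem_sup_comm hm.pd.cb).1 hb
  exact ⟨l, hl, k, hk, n, hn, rfl⟩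

theorem exists_la (hm : MinCex π LA KA LB KB N) {x : G} (hx : x ∈ LA) : ∃ y ∈ LB, ∃ n ∈ N, x = y * n := by
  have := hm.normal
  obtain ⟨b, hb, n, hn, h1⟩ := (mem_sup_of_normal_right).1 (hm.lab hx)
  exact ⟨b, hb, n, hn, h1.symm⟩

theorem exists_kb (hm : MinCex π LA KA LB KB N) {x : G} (hx : x ∈ KB) : ∃ y ∈ KA, ∃ n ∈ N, x = y * n := by
  have := hm.normal
  have h2 : x ∈ KA ⊔ N := by rw [hm.kab]; exact mem_sup_left hx
  obtain ⟨b, hb, n, hn, h1⟩ := (mem_sup_of_normal_right).1 h2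
  exact ⟨b, hb, n, hn, h1.symm⟩

theorem exists_ka (hm : MinCex π LA KA LB KB N) {x : G} (hx : x ∈ KA) : ∃ y ∈ KB, ∃ n ∈ N, x = y * n := by
  have := hm.normal
  have h2 : x ∈ KB ⊔ N := by rw [← hm.kab]; exact mem_sup_left hx
  obtain ⟨b, hb, n, hn, h1⟩ := (mem_sup_of_normal_right).1 h2
  exact ⟨b, hb, n, hn, h1.symm⟩

end MinCex

variable (hm : MinCex π LA KA LB KB N) (h : Sys N T e) {σ : G →* Equiv.Perm (Fin m)}
  (hσ : ∀ g i, T (σ g i) = (T i).map (MulAut.conj g).toMonoidHom)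
include hm h hσ

theorem sigma_N {n : G} (hn : n ∈ N) : σ n = 1 := by
  have := hm.normal
  ext i
  rw [h.sigma_of_mem hσ hn i]
  rfl

theorem sigma_mul_N {g n : G} (hn : n ∈ N) : σ (g * n) = σ g := by
  rw [map_mul, sigma_N hm h hσ hn, mul_one]

theorem exists_sigma_eq (i j : Fin m) : ∃ g : G, σ g i = j := by
  obtain ⟨g, hg⟩ := h.tr i j
  refine ⟨g, h.inj ?_⟩
  rw [hσ]
  exact hg.symm

/-- **`LA` fixes all factors.** -/
theorem la_le_ker (h2 : 2 ∉ π) (i0 : Fin m)
    (hout : (Nat.card (MulAut (T i0))).factorization 2 + 1 ≤ 2 * (Nat.card (T i0)).factorization 2) :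
    LA ≤ σ.ker := by
  have hN := hm.normal
  by_contra hcon
  obtain ⟨x, hx, hx1⟩ := SetLike.not_le_iff_exists.1 hcon
  rw [MonoidHom.mem_ker] at hx1
  obtain ⟨i, hi⟩ : ∃ i, σ x i ≠ i := by
    by_contra hcon2
    push Not at hcon2
    exact hx1 (Equiv.ext hcon2)
  obtain ⟨OA, _, pA, rA, hA⟩ := exists_orb σ LA
  obtain ⟨OB, _, pB, rB, hB⟩ := exists_orb σ LB
  have hla : ¬ 2 ∣ Nat.card LA := fun hd => h2 (hm.pd.la 2 Nat.prime_two hd)
  have hlb : ¬ 2 ∣ Nat.card LB := fun hd => h2 (hm.pd.lb 2 Nat.prime_two hd)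
  -- the combinatorial inequality
  have c1 : Nat.card OA + 2 * Nat.card OB ≤ m := by
    refine orbits_le hla hA hB ?_ hx ?_
    · intro y hy
      obtain ⟨z, hz, n, hn, rfl⟩ := hm.exists_la hy
      exact ⟨z, hz, sigma_mul_N hm h hσ hn⟩
    · intro o
      obtain ⟨g, hg⟩ := exists_sigma_eq hm h hσ i (rB o)
      obtain ⟨l, hl, k, hk, n, hn, rfl⟩ := hm.exists_mul g
      rw [sigma_mul_N hm h hσ hn, map_mul] at hg
      refine ⟨σ k i, ?_, ?_⟩
      · rw [← hB.pr o, hB.eq]
        exact ⟨l, hl, hg⟩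
      · obtain ⟨k', hk', n', hn', rfl⟩ := hm.exists_kb hk
        rw [sigma_mul_N hm h hσ hn']
        intro h3
        apply hi
        have h4 : σ x (σ k' i) = σ k' (σ x i) := by
          have := congrArg σ (hm.pd.ca x hx k' hk')
          rw [map_mul, map_mul] at this
          exact congrArg (fun z => z i) this
        rw [h4] at h3
        exact (σ k').injective h3
  -- the numerical inequality
  have n1 := hm.pd.symm.num_pi' N Nat.prime_two h2
  have n2 : (Nat.card N).factorization 2 = m * (Nat.card (T i0)).factorization 2 := by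
    rw [card_N h hσ i0, Nat.factorization_pow, Finsupp.smul_apply, smul_eq_mul]
  have n3 : (Nat.card ↥(KA ⊓ N)).factorization 2 ≤ Nat.card OA * (Nat.card (T i0)).factorization 2 := by
    have h3 := card_dvd_orbits h hσ i0 (X := KA ⊓ N) (L := LA) inf_le_right
      (fun a ha b hb => hm.pd.ca a ha b hb.1) pA rA (fun i => (hA.eq _ _).1 (hA.pr _))
    have h4 := (Nat.factorization_le_iff_dvd Nat.card_pos.ne' (pow_ne_zero _ Nat.card_pos.ne')).2 h3 2
    rwa [Nat.factorization_pow, Finsupp.smul_apply, smul_eq_mul] at h4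
  have n4 := two_part h hσ i0 hlb hm.pd.cb hm.cent hB
  have n5 : Nat.card OB * (1 + (Nat.card (MulAut (T i0))).factorization 2) ≤
      Nat.card OB * (2 * (Nat.card (T i0)).factorization 2) := Nat.mul_le_mul_left _ (by omega)
  rw [n2] at n1
  set s := (Nat.card (T i0)).factorization 2
  have n6 : (Nat.card OA + 2 * Nat.card OB) * s ≤ m * s := Nat.mul_le_mul_right _ c1
  have n7 : (Nat.card OA + 2 * Nat.card OB) * s = Nat.card OA * s + Nat.card OB * (2 * s) := by ring
  omega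

/-- **`LB` fixes all factors.** -/
theorem lb_le_ker (hla : LA ≤ σ.ker) : LB ≤ σ.ker := by
  have hN := hm.normal
  set Y : Subgroup G := (KB.map σ).comap σ with hY
  have hYn : Y.Normal := by
    constructor
    intro x hx g
    obtain ⟨k, hk, hkx⟩ := hx
    obtain ⟨l, hl, k', hk', n, hn, rfl⟩ := hm.exists_mul g
    refine ⟨k' * k * k'⁻¹, mul_mem (mul_mem hk' hk) (inv_mem hk'), ?_⟩
    have e1 : l * (k' * k * k'⁻¹) * l⁻¹ = k' * k * k'⁻¹ := by
      rw [hm.pd.cb l hl _ (mul_mem (mul_mem hk' hk) (inv_mem hk')), mul_inv_cancel_right]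
    rw [← e1]
    simp only [map_mul, map_inv, sigma_N hm h hσ hn, hkx]
    group
  have h1 : Y = ⊤ := by
    apply hm.nor Y hYn
    · intro x hx
      have := hla hx
      rw [MonoidHom.mem_ker] at this
      show σ x ∈ KB.map σ
      rw [this]
      exact one_mem _
    · intro x hx
      obtain ⟨y, hy, n, hn, rfl⟩ := hm.exists_ka hx
      exact ⟨y, hy, (sigma_mul_N hm h hσ hn).symm⟩
  intro x hx
  have h2 : x ∈ Y := by rw [h1]; exact mem_top x
  obtain ⟨k, hk, hkx⟩ := h2
  rw [MonoidHom.mem_ker, ← orderOf_eq_one_iff]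
  apply eq_one_of_both (π := π)
  · exact hm.pd.lb.of_dvd ((orderOf_map_dvd σ x).trans (Subgroup.orderOf_dvd_natCard LB hx))
  · rw [← hkx]
    exact hm.pd.kb.of_dvd ((orderOf_map_dvd σ k).trans (Subgroup.orderOf_dvd_natCard KB hk))

theorem kb_transitive (hlb : LB ≤ σ.ker) (i j : Fin m) : ∃ k ∈ KB, σ k i = j := by
  obtain ⟨g, hg⟩ := exists_sigma_eq hm h hσ i j
  obtain ⟨l, hl, k, hk, n, hn, rfl⟩ := hm.exists_mul g
  refine ⟨k, hk, ?_⟩
  have h1 : σ l = 1 := hlb hl
  rw [sigma_mul_N hm h hσ hn, map_mul, h1, one_mul] at hg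
  exact hg

theorem ka_transitive (hlb : LB ≤ σ.ker) (i j : Fin m) : ∃ k ∈ KA, σ k i = j := by
  obtain ⟨k, hk, h1⟩ := kb_transitive hm h hσ hlb i j
  obtain ⟨k', hk', n, hn, rfl⟩ := hm.exists_kb hk
  exact ⟨k', hk', by rwa [sigma_mul_N hm h hσ hn] at h1⟩

end main

end Cfsg.Agent.H817.PD
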