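import Mathlib
import Cfsg.Agent.H902.Shape

/-!
# The 2-parts of the orders of the groups of Lie type (helper817, for S4246)

`two_num_ge` : for odd `p` and every shape except `L 2` and `Ree`,
`v₂(num) ≥ 4 + 2 v₂(dd) + v₂(f)`.
-/

set_option autoImplicit false

namespace Cfsg.Agent.H817.PD.OutNum

open Finset Cfsg.Agent.H902.Art

/-- the 2-adic valuation -/
def v (n : ℕ) : ℕ := n.factorization 2

theorem v_mul {a b : ℕ} (ha : a ≠ 0) (hb : b ≠ 0) : v (a * b) = v a + v b := by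
  rw [v, Nat.factorization_mul ha hb, Finsupp.add_apply]; rfl

theorem v_le {a b : ℕ} (hb : b ≠ 0) (h : a ∣ b) : v a ≤ v b := by
  have ha : a ≠ 0 := fun h0 => hb (by rw [h0] at h; exact Nat.eq_zero_of_zero_dvd h)
  exact (Nat.factorization_le_iff_dvd ha hb).2 h 2

theorem v_pow (a n : ℕ) : v (a ^ n) = n * v a := by
  rw [v, Nat.factorization_pow, Finsupp.smul_apply, smul_eq_mul]; rfl

theorem v_two : v 2 = 1 := Nat.prime_two.factorization_self

theorem v_odd {a : ℕ} (ha : Odd a) : v a = 0 :=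
  Nat.factorization_eq_zero_of_not_dvd (fun h => (Nat.not_even_iff_odd.2 ha) (even_iff_two_dvd.2 h))

theorem one_le_v {a : ℕ} (ha : a ≠ 0) (h : Even a) : 1 ≤ v a := by
  rw [← v_two]
  exact v_le ha (even_iff_two_dvd.1 h)

theorem le_v_of_pow_dvd {a k : ℕ} (ha : a ≠ 0) (h : 2 ^ k ∣ a) : k ≤ v a := by
  have := v_le ha h
  rwa [v_pow, v_two, mul_one] at this

theorem v_lt {n : ℕ} (hn : n ≠ 0) : v n < n := Nat.factorization_lt 2 hn

theorem two_mul_v_le {n : ℕ} (hn : n ≠ 0) : 2 * v n ≤ n := by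
  have h1 : 2 ^ v n ≤ n := Nat.ordProj_le 2 hn
  have h2 : ∀ k : ℕ, 2 * k ≤ 2 ^ k := by
    intro k
    induction k with
    | zero => simp
    | succ k ih =>
      rcases Nat.eq_zero_or_pos k with rfl | hk
      · norm_num
      · have : 2 ≤ 2 ^ k := Nat.le_self_pow (by omega) 2 |>.trans le_rfl
        rw [pow_succ]
        omega
  exact (h2 _).trans h1

section odd

variable {p f : ℕ} (hp : 3 ≤ p) (ho : Odd p) (hf : 1 ≤ f)
include hp ho hf

theorem q_ge : 3 ≤ p ^ f := hp.trans (Nat.le_self_pow (by omega) p)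

theorem q_odd : Odd (p ^ f) := ho.pow

/-- lifting the exponent -/
theorem v_sq : 3 + v f ≤ v ((p ^ f) ^ 2 - 1) := by
  have hF : Fact (Nat.Prime 2) := ⟨Nat.prime_two⟩
  have h1 : (p ^ f) ^ 2 - 1 = (p ^ 2) ^ f - 1 ^ f := by rw [one_pow, ← pow_mul, ← pow_mul, mul_comm]
  have h8 : 8 ∣ p ^ 2 - 1 := by
    obtain ⟨k, rfl⟩ := ho
    have h2 : (2 * k + 1) ^ 2 - 1 = 4 * (k * (k + 1)) := by
      have : (2 * k + 1) ^ 2 = 4 * (k * (k + 1)) + 1 := by ring
      rw [this, Nat.add_sub_cancel]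
    rw [h2]
    obtain ⟨j, hj⟩ := Nat.even_mul_succ_self k
    exact ⟨j, by rw [hj]; ring⟩
  have hp2 : 1 < p ^ 2 := by nlinarith
  have h3 : 3 ≤ v (p ^ 2 - 1) := le_v_of_pow_dvd (by omega) h8
  -- `(p²)^f - 1` : induction over the 2-part of `f`
  have key : ∀ (k : ℕ) (x : ℕ), 1 < x → Odd x → 3 ≤ v (x - 1) → 3 + k ≤ v (x ^ 2 ^ k - 1) := by
    intro k
    induction k with
    | zero => intro x hx hxo hx3; simpa using hx3
    | succ k ih =>
      intro x hx hxo hx3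
      have h4 := ih x hx hxo hx3
      have h5 : 1 < x ^ 2 ^ k := one_lt_pow₀ hx (by positivity)
      have h6 : x ^ 2 ^ (k + 1) - 1 = (x ^ 2 ^ k + 1) * (x ^ 2 ^ k - 1) := by
        have h7 := Nat.sq_sub_sq (x ^ 2 ^ k) 1
        rwa [one_pow, ← pow_mul, ← pow_succ] at h7
      rw [h6, v_mul (by omega) (by omega)]
      have h8 : 1 ≤ v (x ^ 2 ^ k + 1) := one_le_v (by omega) ((hxo.pow).add_one)
      omega
  have h9 : f = 2 ^ v f * (f / 2 ^ v f) := (Nat.ordProj_mul_ordCompl_eq_self f 2).symm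
  have h10 := key (v f) (p ^ 2) hp2 ho.pow h3
  have h11 : (p ^ 2) ^ 2 ^ v f - 1 ∣ (p ^ f) ^ 2 - 1 := by
    rw [h1]
    conv_rhs => rw [h9]
    rw [pow_mul, one_pow]
    have := Nat.sub_dvd_pow_sub_pow ((p ^ 2) ^ 2 ^ v f) 1 (f / 2 ^ v f)
    rwa [one_pow] at this
  have h12 : 1 < (p ^ f) ^ 2 := one_lt_pow₀ (by have := q_ge hp ho hf; omega) (by norm_num)
  exact h10.trans (v_le (by omega) h11)

theorem v_even {i : ℕ} (hi : i ≠ 0) (he : Even i) : 3 + v f ≤ v ((p ^ f) ^ i - 1) := by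
  obtain ⟨j, rfl⟩ := he
  have h1 : (p ^ f) ^ 2 - 1 ∣ (p ^ f) ^ (j + j) - 1 := by
    rw [← two_mul, pow_mul]
    have := Nat.sub_dvd_pow_sub_pow ((p ^ f) ^ 2) 1 j
    rwa [one_pow] at this
  have h2 : 1 < (p ^ f) ^ (j + j) := one_lt_pow₀ (by have := q_ge hp ho hf; omega) hi
  exact (v_sq hp ho hf).trans (v_le (by omega) h1)

theorem v_four : 4 + v f ≤ v ((p ^ f) ^ 4 - 1) := by
  have h1 : (p ^ f) ^ 4 - 1 = ((p ^ f) ^ 2 + 1) * ((p ^ f) ^ 2 - 1) := by
    have h7 := Nat.sq_sub_sq ((p ^ f) ^ 2) 1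
    rwa [one_pow, ← pow_mul] at h7
  have h2 : 1 < (p ^ f) ^ 2 := one_lt_pow₀ (by have := q_ge hp ho hf; omega) (by norm_num)
  rw [h1, v_mul (by omega) (by omega)]
  have h3 : 1 ≤ v ((p ^ f) ^ 2 + 1) := one_le_v (by omega) ((q_odd hp ho hf).pow.add_one)
  have := v_sq hp ho hf
  omega

theorem v_sub {i : ℕ} (hi : i ≠ 0) : 1 ≤ v ((p ^ f) ^ i - 1) := by
  have h2 : 1 < (p ^ f) ^ i := one_lt_pow₀ (by have := q_ge hp ho hf; omega) hi
  exact one_le_v (by omega) (Nat.Odd.sub_odd (q_odd hp ho hf).pow odd_one)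

theorem v_add (i : ℕ) : 1 ≤ v ((p ^ f) ^ i + 1) :=
  one_le_v (by omega) ((q_odd hp ho hf).pow.add_one)

omit hp ho hf in
theorem v_prod {s : Finset ℕ} {g : ℕ → ℕ} (hg : ∀ i ∈ s, g i ≠ 0) : v (∏ i ∈ s, g i) = ∑ i ∈ s, v (g i) := by
  rw [v, Nat.factorization_prod hg, Finset.sum_apply']; rfl

omit hp ho hf in
/-- the lower bound for a product over `range (n - 1)` -/
theorem sum_ge {n : ℕ} (hn : 3 ≤ n) {w : ℕ → ℕ} {c : ℕ} (h0 : 3 + c ≤ w 0) (h2 : 4 + c ≤ w 2) (h1 : ∀ i, 1 ≤ w i) :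
    n + 1 + c ≤ ∑ i ∈ range (n - 1), w i ∧ (4 ≤ n → n + 4 + c ≤ ∑ i ∈ range (n - 1), w i) := by
  obtain ⟨m, rfl⟩ : ∃ m, n = m + 3 := ⟨n - 3, by omega⟩
  induction m with
  | zero =>
    refine ⟨?_, fun h => by omega⟩
    have : ∑ i ∈ range (0 + 3 - 1), w i = w 0 + w 1 := by simp [Finset.sum_range_succ]
    rw [this]
    have := h1 1
    omega
  | succ m ih =>
    obtain ⟨ih1, ih2⟩ := ih (by omega)
    have e : m + 1 + 3 - 1 = (m + 3 - 1) + 1 := by omega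
    rw [e, Finset.sum_range_succ]
    rcases Nat.eq_zero_or_pos m with rfl | hm
    · have e2 : 0 + 3 - 1 = 2 := rfl
      rw [e2] at ih1 ⊢
      exact ⟨by omega, fun _ => by omega⟩
    · have := h1 (m + 3 - 1)
      have := ih2 (by omega)
      exact ⟨by omega, fun _ => by omega⟩

theorem one_lt_pow' {i : ℕ} (hi : i ≠ 0) : 1 < (p ^ f) ^ i :=
  one_lt_pow₀ (by have := q_ge hp ho hf; omega) hi

theorem sub_ne {i : ℕ} (hi : i ≠ 0) : (p ^ f) ^ i - 1 ≠ 0 := by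
  have := one_lt_pow' hp ho hf hi
  omega

omit hp ho hf in
theorem v_le_one {a b : ℕ} (hb : b = 2 ∨ b = 3) (h : a ∣ b) : v a ≤ 1 := by
  rcases hb with rfl | rfl
  · exact (v_le (by norm_num) h).trans v_two.le
  · refine (v_le (by norm_num) h).trans ?_
    rw [v_odd (by decide)]
    exact Nat.zero_le _

omit hp ho hf in
theorem v_dvd_four {a : ℕ} (h : a ∣ 4) : v a ≤ 2 := by
  refine (v_le (by norm_num) h).trans ?_
  rw [show (4 : ℕ) = 2 ^ 2 by norm_num, v_pow, v_two]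

/-- two even factors -/
theorem of_two {i j M d : ℕ} (hi : i ≠ 0) (hie : Even i) (hj : j ≠ 0) (hje : Even j) (hM : M ≠ 0)
    (h : ((p ^ f) ^ i - 1) * ((p ^ f) ^ j - 1) ∣ M) (hd : v d ≤ 1) : 4 + 2 * v d + v f ≤ v M := by
  have h1 := v_le hM h
  rw [v_mul (sub_ne hp ho hf hi) (sub_ne hp ho hf hj)] at h1
  have h2 := v_even hp ho hf hi hie
  have h3 := v_even hp ho hf hj hje
  omega

theorem prod_ge (m : ℕ) : m * (3 + v f) ≤ v (∏ i ∈ range m, ((p ^ f) ^ (2 * (i + 1)) - 1)) := by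
  rw [v_prod (fun i _ => sub_ne hp ho hf (by omega))]
  calc m * (3 + v f) = ∑ _i ∈ range m, (3 + v f) := by rw [Finset.sum_const, card_range, smul_eq_mul]
    _ ≤ _ := Finset.sum_le_sum fun i _ => v_even hp ho hf (by omega) (even_two_mul _)

theorem prod_ne (m : ℕ) : ∏ i ∈ range m, ((p ^ f) ^ (2 * (i + 1)) - 1) ≠ 0 :=
  Finset.prod_ne_zero_iff.2 fun i _ => sub_ne hp ho hf (by omega)

/-- odd `q` -/
theorem v_num_ge {X : Sh} (hok : Ok X p f) (h2 : X ≠ .L 2) (hR : X ≠ .Ree) :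
    4 + 2 * v (dd X (p ^ f)) + v f ≤ v (num X (p ^ f)) := by
  have hp2 : p ≠ 2 := by omega
  have hne : ∀ i, i ≠ 0 → (p ^ f) ^ i - 1 ≠ 0 := fun i hi => sub_ne hp ho hf hi
  cases X with
  | L n =>
    obtain ⟨hn, -⟩ := hok
    have hn3 : 3 ≤ n := by
      rcases Nat.lt_or_ge n 3 with h | h
      · exact absurd (by rw [show n = 2 by omega]) h2
      · exact h
    have h3 := sum_ge (n := n) (w := fun i => v ((p ^ f) ^ (i + 2) - 1)) (c := v f) hn3
      (by have := v_sq hp ho hf; simpa using this) (by have := v_four hp ho hf; simpa using this)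
      (fun i => v_sub hp ho hf (by omega))
    have h4 : v (num (.L n) (p ^ f)) = ∑ i ∈ range (n - 1), v ((p ^ f) ^ (i + 2) - 1) :=
      v_prod fun i _ => hne _ (by omega)
    have h5 : v (dd (.L n) (p ^ f)) ≤ v n := v_le (by omega) (Nat.gcd_dvd_left _ _)
    rw [h4]
    rcases Nat.lt_or_ge n 4 with h | h
    · have h6 : n = 3 := by omega
      subst h6
      have h7 : v 3 = 0 := v_odd (by decide)
      have := h3.1
      omega
    · have := h3.2 h
      have := two_mul_v_le (n := n) (by omega)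
      omega
  | C m =>
    obtain ⟨hm, -⟩ := hok
    have h3 := prod_ge hp ho hf m
    have h4 : v (dd (.C m) (p ^ f)) ≤ 1 := v_le_one (Or.inl rfl) (Nat.gcd_dvd_left _ _)
    change 4 + 2 * v (dd (.C m) (p ^ f)) + v f ≤ v (∏ i ∈ range m, ((p ^ f) ^ (2 * (i + 1)) - 1))
    have : 2 * (3 + v f) ≤ m * (3 + v f) := Nat.mul_le_mul_right _ hm
    omega
  | U n =>
    obtain ⟨hn3, -⟩ := hok
    have h3 := sum_ge (n := n) (w := fun i => v (if Even i then (p ^ f) ^ (i + 2) - 1 else (p ^ f) ^ (i + 2) + 1))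
      (c := v f) hn3 (by have := v_sq hp ho hf; simpa using this)
      (by have := v_four hp ho hf; rw [if_pos (by decide)]; simpa using this)
      (fun i => by
        split_ifs
        · exact v_sub hp ho hf (by omega)
        · exact v_add hp ho hf _)
    have h4 : v (num (.U n) (p ^ f)) = ∑ i ∈ range (n - 1),
        v (if Even i then (p ^ f) ^ (i + 2) - 1 else (p ^ f) ^ (i + 2) + 1) :=
      v_prod fun i _ => by
        split_ifs
        · exact hne _ (by omega)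
        · omega
    have h5 : v (dd (.U n) (p ^ f)) ≤ v n := v_le (by omega) (Nat.gcd_dvd_left _ _)
    rw [h4]
    rcases Nat.lt_or_ge n 4 with h | h
    · have h6 : n = 3 := by omega
      subst h6
      have h7 : v 3 = 0 := v_odd (by decide)
      have := h3.1
      omega
    · have := h3.2 h
      have := two_mul_v_le (n := n) (by omega)
      omega
  | D m =>
    have hm : 4 ≤ m := hok
    have h3 := prod_ge hp ho hf (m - 1)
    have h4 : v (dd (.D m) (p ^ f)) ≤ 2 := v_dvd_four (Nat.gcd_dvd_left _ _)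
    change 4 + 2 * v (dd (.D m) (p ^ f)) + v f ≤
      v (((p ^ f) ^ m - 1) * ∏ i ∈ range (m - 1), ((p ^ f) ^ (2 * (i + 1)) - 1))
    rw [v_mul (hne m (by omega)) (prod_ne hp ho hf _)]
    have : 3 * (3 + v f) ≤ (m - 1) * (3 + v f) := Nat.mul_le_mul_right _ (by omega)
    omega
  | DD m =>
    have hm : 4 ≤ m := hok
    have h3 := prod_ge hp ho hf (m - 1)
    have h4 : v (dd (.DD m) (p ^ f)) ≤ 2 := v_dvd_four (Nat.gcd_dvd_left _ _)
    change 4 + 2 * v (dd (.DD m) (p ^ f)) + v f ≤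
      v (((p ^ f) ^ m + 1) * ∏ i ∈ range (m - 1), ((p ^ f) ^ (2 * (i + 1)) - 1))
    rw [v_mul (by omega) (prod_ne hp ho hf _)]
    have : 3 * (3 + v f) ≤ (m - 1) * (3 + v f) := Nat.mul_le_mul_right _ (by omega)
    omega
  | G2 =>
    refine of_two hp ho hf (i := 2) (j := 6) (by norm_num) (by decide) (by norm_num) (by decide) ?_ dvd_rfl ?_
    · exact mul_ne_zero (hne _ (by norm_num)) (hne _ (by norm_num))
    · exact v_le_one (Or.inl rfl) (one_dvd _)
  | F4 =>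
    refine of_two hp ho hf (i := 2) (j := 6) (by norm_num) (by decide) (by norm_num) (by decide) ?_ ?_ ?_
    · simp only [num]
      simp only [mul_ne_zero_iff]
      refine ⟨⟨⟨?_, ?_⟩, ?_⟩, ?_⟩ <;> exact hne _ (by norm_num)
    · exact ⟨((p ^ f) ^ 8 - 1) * ((p ^ f) ^ 12 - 1), by simp only [num]; ring⟩
    · exact v_le_one (Or.inl rfl) (one_dvd _)
  | E6 =>
    refine of_two hp ho hf (i := 2) (j := 6) (by norm_num) (by decide) (by norm_num) (by decide) ?_ ?_ ?_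
    · simp only [num]
      simp only [mul_ne_zero_iff]
      refine ⟨⟨⟨⟨⟨?_, ?_⟩, ?_⟩, ?_⟩, ?_⟩, ?_⟩ <;> exact hne _ (by norm_num)
    · exact ⟨((p ^ f) ^ 5 - 1) * ((p ^ f) ^ 8 - 1) * ((p ^ f) ^ 9 - 1) * ((p ^ f) ^ 12 - 1), by
        simp only [num]; ring⟩
    · exact v_le_one (Or.inr rfl) (Nat.gcd_dvd_left _ _)
  | E7 =>
    refine of_two hp ho hf (i := 2) (j := 6) (by norm_num) (by decide) (by norm_num) (by decide) ?_ ?_ ?_
    · simp only [num]
      simp only [mul_ne_zero_iff]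
      refine ⟨⟨⟨⟨⟨⟨?_, ?_⟩, ?_⟩, ?_⟩, ?_⟩, ?_⟩, ?_⟩ <;> exact hne _ (by norm_num)
    · exact ⟨((p ^ f) ^ 8 - 1) * ((p ^ f) ^ 10 - 1) * ((p ^ f) ^ 12 - 1) * ((p ^ f) ^ 14 - 1) * ((p ^ f) ^ 18 - 1), by
        simp only [num]; ring⟩
    · exact v_le_one (Or.inl rfl) (Nat.gcd_dvd_left _ _)
  | E8 =>
    refine of_two hp ho hf (i := 2) (j := 8) (by norm_num) (by decide) (by norm_num) (by decide) ?_ ?_ ?_
    · simp only [num]
      simp only [mul_ne_zero_iff]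
      refine ⟨⟨⟨⟨⟨⟨⟨?_, ?_⟩, ?_⟩, ?_⟩, ?_⟩, ?_⟩, ?_⟩, ?_⟩ <;> exact hne _ (by norm_num)
    · exact ⟨((p ^ f) ^ 12 - 1) * ((p ^ f) ^ 14 - 1) * ((p ^ f) ^ 18 - 1) * ((p ^ f) ^ 20 - 1) *
        ((p ^ f) ^ 24 - 1) * ((p ^ f) ^ 30 - 1), by simp only [num]; ring⟩
    · exact v_le_one (Or.inl rfl) (one_dvd _)
  | TE6 =>
    refine of_two hp ho hf (i := 2) (j := 6) (by norm_num) (by decide) (by norm_num) (by decide) ?_ ?_ ?_
    · simp only [num]
      simp only [mul_ne_zero_iff]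
      refine ⟨⟨⟨⟨⟨?_, ?_⟩, ?_⟩, ?_⟩, ?_⟩, ?_⟩ <;> first | exact hne _ (by norm_num) | exact Nat.succ_ne_zero _
    · exact ⟨((p ^ f) ^ 5 + 1) * ((p ^ f) ^ 8 - 1) * ((p ^ f) ^ 9 + 1) * ((p ^ f) ^ 12 - 1), by
        simp only [num]; ring⟩
    · exact v_le_one (Or.inr rfl) (Nat.gcd_dvd_left _ _)
  | TD4 =>
    refine of_two hp ho hf (i := 2) (j := 6) (by norm_num) (by decide) (by norm_num) (by decide) ?_ ?_ ?_
    · simp only [num]
      simp only [mul_ne_zero_iff]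
      refine ⟨⟨?_, ?_⟩, ?_⟩ <;> first | exact hne _ (by norm_num) | exact Nat.succ_ne_zero _
    · exact ⟨_, rfl⟩
    · exact v_le_one (Or.inl rfl) (one_dvd _)
  | Sz => exact absurd hok.1 hp2
  | Ree => exact absurd rfl hR
  | TF4 => exact absurd hok.1 hp2

end odd

/-- even `q` : `dd` is odd -/
theorem v_dd_even {X : Sh} {f : ℕ} (hf : 1 ≤ f) (hok : Ok X 2 f) : v (dd X (2 ^ f)) = 0 := by
  have he : ∀ i, i ≠ 0 → Even ((2 ^ f) ^ i) := fun i hi => by
    rw [← pow_mul]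
    exact even_two.pow_of_ne_zero (Nat.mul_ne_zero (by omega) hi)
  have h1 : ∀ i, i ≠ 0 → Odd ((2 ^ f) ^ i - 1) := fun i hi =>
    Nat.Even.sub_odd (Nat.one_le_pow _ _ (by positivity)) (he i hi) odd_one
  have h2 : ∀ i, i ≠ 0 → Odd ((2 ^ f) ^ i + 1) := fun i hi => (he i hi).add_one
  have h3 : ∀ a b : ℕ, Odd b → v (Nat.gcd a b) = 0 := fun a b hb => by
    apply v_odd
    obtain ⟨k, hk⟩ := Nat.gcd_dvd_right a b
    rw [hk] at hb
    exact (Nat.odd_mul.1 hb).1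
  have h4 : Odd (2 ^ f - 1) := by have := h1 1 one_ne_zero; rwa [pow_one] at this
  have h5 : Odd (2 ^ f + 1) := by have := h2 1 one_ne_zero; rwa [pow_one] at this
  cases X with
  | L n => exact h3 _ _ h4
  | C m => exact h3 _ _ h4
  | U n => exact h3 _ _ h5
  | D m => exact h3 _ _ (h1 m (by have : 4 ≤ m := hok; omega))
  | DD m => exact h3 _ _ (h2 m (by have : 4 ≤ m := hok; omega))
  | E6 => exact h3 _ _ h4
  | E7 => exact h3 _ _ h4
  | TE6 => exact h3 _ _ h5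
  | _ => exact v_odd odd_one

theorem two_le_NN {X : Sh} {p f : ℕ} (hok : Ok X p f) (h2 : X ≠ .L 2) : 2 ≤ NN X := by
  cases X with
  | L n =>
    obtain ⟨hn, -⟩ := hok
    have hn3 : 3 ≤ n := by
      rcases Nat.lt_or_ge n 3 with h | h
      · exact absurd (by rw [show n = 2 by omega]) h2
      · exact h
    have : 3 * 2 ≤ n * (n - 1) := Nat.mul_le_mul hn3 (by omega)
    change 2 ≤ n * (n - 1) / 2
    omega
  | C m =>
    have : 2 ^ 2 ≤ m ^ 2 := Nat.pow_le_pow_left hok.1 2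
    change 2 ≤ m ^ 2
    omega
  | U n =>
    obtain ⟨hn, -⟩ := hok
    have : 3 * 2 ≤ n * (n - 1) := Nat.mul_le_mul hn (by omega)
    change 2 ≤ n * (n - 1) / 2
    omega
  | D m =>
    have hm : 4 ≤ m := hok
    have : 4 * 3 ≤ m * (m - 1) := Nat.mul_le_mul hm (by omega)
    change 2 ≤ m * (m - 1)
    omega
  | DD m =>
    have hm : 4 ≤ m := hok
    have : 4 * 3 ≤ m * (m - 1) := Nat.mul_le_mul hm (by omega)
    change 2 ≤ m * (m - 1)
    omega
  | _ => simp [NN]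

end Cfsg.Agent.H817.PD.OutNum
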