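import Cfsg.Agent.H817.PD.OutNum
import Cfsg.Agent.H364.OutLie
import Cfsg.Agent.H489.OutSpor
import Cfsg.Agent.OrdDiv.Table
import Cfsg.Agent.S0254

/-!
# `|Out S|₂ < |S|₂` for the known simple groups (helper817, for S4246)

`v_out_lt` : `v₂ |Out S| + 1 ≤ v₂ |S|`;
`aut_two` : `v₂ |Aut S| + 1 ≤ 2 v₂ |S|`.
-/

set_option autoImplicit false

namespace Cfsg.Agent.H817.PD

open Cfsg Cfsg.Agent.OrdDiv Finset
open Cfsg.Agent.H902 Cfsg.Agent.H902.Names Cfsg.Agent.H934.OutB
open Cfsg.Agent.H817.PD.OutNum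

universe u

/-- the claim -/
def VO (S : Type*) [Group S] : Prop := v (Nat.card (Cfsg.Out S)) + 1 ≤ v (Nat.card S)

theorem VO.congr {S T : Type u} [Group S] [Group T] (e : S ≃* T) (h : VO T) : VO S := by
  rw [VO, card_out_congr e, Nat.card_congr e.toEquiv]
  exact h

theorem two_le_of_four {n : ℕ} (hn : n ≠ 0) (h : 4 ∣ n) : 2 ≤ v n :=
  le_v_of_pow_dvd hn (by norm_num; exact h)

theorem VO.of_le_two {S : Type*} [Group S] [Finite S] (h : Nat.card (Cfsg.Out S) ≤ 2) (h4 : 4 ∣ Nat.card S) : VO S := by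
  have h1 := two_le_of_four Nat.card_pos.ne' h4
  have h2 : v (Nat.card (Cfsg.Out S)) ≤ 1 := by
    generalize Nat.card (Cfsg.Out S) = n at h
    interval_cases n
    · simp [v]
    · simp [v]
    · exact v_two.le
  unfold VO
  omega

/-- `L 2` -/
theorem vo_psl_two {S : Type u} [Group S] [Finite S] [IsSimpleGroup S] (hna : ¬ IsMulCommutative S) {p f : ℕ}
    (h : OrdDiv.Real (.psl 2 (p ^ f)) S) (hr : Art.Real (.L 2) p f (Nat.card S)) : VO S := by
  obtain ⟨hp, hf, hok, heq⟩ := hr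
  have hpf := Fact.mk hp
  obtain ⟨F, _, _, hF, ⟨e⟩⟩ := h
  have h1 := Cfsg.Agent.S0813.result p f hf hF 2 le_rfl hok.2
  rw [H364.OutLie.card_pgl le_rfl, hF] at h1
  have h2 : Nat.card (MulAut S) = (Nat.gcd 2 (p ^ f - 1) * f) * Nat.card S := by
    rw [H364.OutLie.mulaut_congr e, h1, Nat.card_congr e.toEquiv, if_pos rfl]; ring
  have h3 := card_out_of_aut hna h2
  have hq4 := hok.2 rfl
  have hS0 : Nat.card S ≠ 0 := Nat.card_pos.ne'
  have hnum : Art.num (.L 2) (p ^ f) = (p ^ f) ^ 2 - 1 := by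
    simp [Art.num]
  have hg : Nat.gcd 2 (p ^ f - 1) ≠ 0 := Nat.gcd_ne_zero_left (by norm_num)
  have hq0 : p ^ f ≠ 0 := by omega
  have hq2 : (p ^ f) ^ 2 - 1 ≠ 0 := by
    have : 4 ^ 2 ≤ (p ^ f) ^ 2 := Nat.pow_le_pow_left hq4 2
    omega
  have hNN : Art.NN (.L 2) = 1 := rfl
  rw [hnum, hNN, pow_one] at heq
  change Nat.gcd 2 (p ^ f - 1) * Nat.card S = p ^ f * ((p ^ f) ^ 2 - 1) at heq
  have h4 := congrArg v heq
  rw [v_mul hg hS0, v_mul hq0 hq2] at h4
  rw [VO, h3, v_mul hg (by omega)]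
  rcases hp.eq_two_or_odd' with rfl | ho
  · have h5 : v (Nat.gcd 2 (2 ^ f - 1)) = 0 := by
      have := v_dd_even (X := .L 2) hf hok
      exact this
    rw [v_pow, v_two, mul_one] at h4
    have := v_lt (n := f) (by omega)
    omega
  · have hp3 : 3 ≤ p := by
      have := hp.two_le
      obtain ⟨k, rfl⟩ := ho
      omega
    have h5 := v_sq hp3 ho hf
    have h6 : v (Nat.gcd 2 (p ^ f - 1)) ≤ 1 := v_le_one (Or.inl rfl) (Nat.gcd_dvd_left _ _)
    omega

/-- `²G₂` -/
theorem vo_ree {S : Type u} [Group S] [Finite S] {q : ℕ}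
    (h : OrdDiv.Real (.ree q) S) (h2 : 2 ∣ Nat.card S) : VO S := by
  obtain ⟨F, _, _, m, hm, hF, hq, ⟨e⟩⟩ := h
  have h1 := Cfsg.Agent.S2127.result hm (hF.trans hq)
  rw [VO, card_out_congr e, h1, v_odd (odd_two_mul_add_one m)]
  exact one_le_v Nat.card_pos.ne' (even_iff_two_dvd.2 h2)

theorem vo_lie {S : Type u} [Group S] [Finite S] [IsSimpleGroup S] (hna : ¬ IsMulCommutative S)
    {g : Grp} {X : Art.Sh} {p f : ℕ} (hg : IsLie g X p f) (h : OrdDiv.Real g S)
    (hr : Art.Real X p f (Nat.card S)) : VO S := by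
  by_cases hX : X = .L 2
  · subst hX
    cases hg
    exact vo_psl_two hna h hr
  by_cases hR : X = .Ree
  · subst hR
    cases hg
    refine vo_ree h ?_
    obtain ⟨hp, hf, hok, heq⟩ := hr
    obtain ⟨rfl, -, -⟩ := hok
    change 1 * Nat.card S = (3 ^ f) ^ 3 * ((3 ^ f - 1) * ((3 ^ f) ^ 3 + 1)) at heq
    rw [one_mul] at heq
    rw [heq]
    refine Dvd.dvd.mul_left (Dvd.dvd.mul_right ?_ _) _
    rw [← even_iff_two_dvd]
    exact Nat.Odd.sub_odd (Odd.pow (by decide)) odd_one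
  obtain ⟨c, hc1, hc2, hc3⟩ := H364.OutLie.card_out (fun h => hna ⟨⟨h⟩⟩) hg h hr
  obtain ⟨hp, hf, hok, heq⟩ := hr
  have hS0 : Nat.card S ≠ 0 := Nat.card_pos.ne'
  have hq0 : p ^ f ≠ 0 := (Nat.pow_pos hp.pos).ne'
  have hO0 : Nat.card (Cfsg.Out S) ≠ 0 := Nat.card_pos.ne'
  have hc0 : c ≠ 0 := by
    rintro rfl
    rw [zero_mul] at hc1
    exact hO0 hc1
  have hd0 : Art.dd X (p ^ f) ≠ 0 := by
    cases X with
    | L n => exact Nat.gcd_ne_zero_left (by have := hok.1; omega)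
    | U n => exact Nat.gcd_ne_zero_left (by have := hok.1; omega)
    | C n => exact Nat.gcd_ne_zero_left (by norm_num)
    | D n => exact Nat.gcd_ne_zero_left (by norm_num)
    | DD n => exact Nat.gcd_ne_zero_left (by norm_num)
    | E6 => exact Nat.gcd_ne_zero_left (by norm_num)
    | E7 => exact Nat.gcd_ne_zero_left (by norm_num)
    | TE6 => exact Nat.gcd_ne_zero_left (by norm_num)
    | _ => exact one_ne_zero
  have hN0 : Art.num X (p ^ f) ≠ 0 := by
    intro h0
    rw [h0, mul_zero] at heq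
    exact (mul_ne_zero hd0 hS0) heq
  have h4 := congrArg v heq
  rw [v_mul hd0 hS0, v_mul (pow_ne_zero _ hq0) hN0] at h4
  rw [VO, hc1, v_mul hc0 (by omega)]
  rcases hp.eq_two_or_odd' with rfl | ho
  · have h5 := v_dd_even hf hok
    have h6 := two_le_NN hok hX
    have h7 := v_le (mul_ne_zero (by norm_num) hd0) (hc3 rfl)
    rw [v_mul (by norm_num) hd0, h5] at h7
    have h8 : v 6 = 1 := by
      rw [show 6 = 2 * 3 by norm_num, v_mul (by norm_num) (by norm_num), v_two, v_odd (by decide)]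
    rw [v_pow, v_pow, v_two, mul_one] at h4
    have h9 := v_lt (n := f) (by omega)
    have h10 : 2 * f ≤ Art.NN X * f := Nat.mul_le_mul_right _ h6
    omega
  · have hp3 : 3 ≤ p := by
      have := hp.two_le
      obtain ⟨k, rfl⟩ := ho
      omega
    have h5 := v_num_ge hp3 ho hf hok hX hR
    have h7 := v_le (mul_ne_zero (by norm_num) hd0) hc2
    rw [v_mul (by norm_num) hd0] at h7
    have h8 : v 24 = 3 := by
      rw [show 24 = 2 ^ 3 * 3 by norm_num, v_mul (by norm_num) (by norm_num), v_pow, v_two, v_odd (by decide)]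
    omega

theorem vo_alt_six {S : Type u} [Group S] [Finite S] [IsSimpleGroup S] (hna : ¬ IsMulCommutative S)
    (e : S ≃* alternatingGroup (Fin 6)) : VO S := by
  have : Fact (Nat.Prime 3) := ⟨Nat.prime_three⟩
  have : Fintype (GaloisField 3 2) := Fintype.ofFinite _
  have hF : Fintype.card (GaloisField 3 2) = 3 ^ 2 := by
    rw [← Nat.card_eq_fintype_card]
    exact GaloisField.card 3 2 (by norm_num)
  obtain ⟨e'⟩ := Cfsg.Agent.S0254.result (F := GaloisField 3 2) (by rw [hF]; norm_num)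
  have e2 := e.trans e'.symm
  refine vo_psl_two hna (p := 3) (f := 2) ⟨_, inferInstance, inferInstance, hF, ⟨e2⟩⟩ ?_
  rw [Nat.card_congr e2.toEquiv]
  exact psl_real Nat.prime_three (by norm_num) hF le_rfl (fun _ => by norm_num)

theorem vo_alt {S : Type u} [Group S] [Finite S] [IsSimpleGroup S] (hna : ¬ IsMulCommutative S) {n : ℕ} (hn : 5 ≤ n)
    (h : OrdDiv.Real (.alt n) S) (hc : 2 * Nat.card S = n.factorial) : VO S := by
  obtain ⟨e⟩ := h
  by_cases h6 : n = 6
  · subst h6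
    exact vo_alt_six hna e
  apply VO.of_le_two
  · rw [card_out_congr e, H489.card_out_alt hn h6]
  · have h1 : Nat.factorial 5 ∣ n.factorial := Nat.factorial_dvd_factorial hn
    rw [← hc] at h1
    have h2 : 2 * 60 ∣ 2 * Nat.card S := by
      have : Nat.factorial 5 = 2 * 60 := by decide
      rwa [this] at h1
    exact (by norm_num : 4 ∣ 60).trans (Nat.dvd_of_mul_dvd_mul_left (by norm_num) h2)

theorem spor_out_le {S : Type u} [Group S] {x : Grp × ℕ} (hx : x ∈ spor) (hr : OrdDiv.Real x.1 S) :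
    Nat.card (Cfsg.Out S) ≤ 2 := by
  have key : ∀ y ∈ spor, y.1 = .tits ∨ (∀ {S : Type u} [Group S], OrdDiv.Real y.1 S → IsSporadicGroup S) := by
    intro y hy
    simp only [spor, List.mem_cons, List.not_mem_nil, or_false] at hy
    rcases hy with rfl | rfl | rfl | rfl | rfl | rfl | rfl | rfl | rfl | rfl | rfl | rfl | rfl | rfl | rfl | rfl | rfl |
      rfl | rfl | rfl | rfl | rfl | rfl | rfl | rfl | rfl | rfl
    · exact Or.inl rfl
    all_goals
      right
      intro S _ h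
      unfold IsSporadicGroup
      simp only [OrdDiv.Real] at h
      simp only [h, true_or, or_true]
  rcases key x hx with h | h
  · rw [h] at hr
    exact H489.card_out_tits hr
  · exact H489.card_out_sporadic (h hr)

theorem vo_spor {S : Type u} [Group S] [Finite S] {x : Grp × ℕ} (hx : x ∈ spor) (hr : OrdDiv.Real x.1 S)
    (hc : Nat.card S = x.2) : VO S := by
  apply VO.of_le_two (spor_out_le hx hr)
  rw [hc]
  have key : ∀ y ∈ spor, 4 ∣ y.2 := by decide +kernel
  exact key x hx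

/-- **`v₂ |Out S| + 1 ≤ v₂ |S|`** -/
theorem vo {S : Type u} [Group S] [Finite S] [IsSimpleGroup S] (hna : ¬ IsMulCommutative S)
    (hK : IsKnownSimple' S) : VO S := by
  rcases exists_nam OrdDiv.table hK (fun h => hna ⟨⟨h⟩⟩) with ⟨n, hn, h, hc⟩ | ⟨g, X, p, f, hg, h, hc⟩ | ⟨x, hx, h, hc⟩
  · exact vo_alt hna hn h hc
  · exact vo_lie hna hg h hc
  · exact vo_spor hx h hc

/-- **`v₂ |Aut S| + 1 ≤ 2 v₂ |S|`** -/
theorem aut_two {S : Type u} [Group S] [Finite S] [IsSimpleGroup S] (hna : ¬ IsMulCommutative S)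
    (hK : IsKnownSimple' S) : (Nat.card (MulAut S)).factorization 2 + 1 ≤ 2 * (Nat.card S).factorization 2 := by
  have h1 : v (Nat.card (MulAut S)) = v (Nat.card (Cfsg.Out S)) + v (Nat.card S) := by
    rw [← card_out_mul S hna, v_mul Nat.card_pos.ne' Nat.card_pos.ne']
  have h2 := vo hna hK
  change v (Nat.card (MulAut S)) + 1 ≤ 2 * v (Nat.card S)
  rw [VO] at h2
  omega

end Cfsg.Agent.H817.PD
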