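import Cfsg.Agent.H817.PD.Basic

/-!
# Products of two π-decomposable groups: the minimal counterexample (helper817, for S4246)

`Gross π` : Hall `π`-subgroups are conjugate (S4350); `IH π n` : the theorem for groups of order `< n`;
`MinCex.main` : in a minimal counterexample there is a unique minimal normal subgroup `N`, it is non-abelian,
`C(N) = 1`, and, up to symmetry, `G = B N`, `KA N = KB N`, `LA ≤ LB N`, and no proper normal subgroup contains `A`.
-/

set_option autoImplicit false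
set_option linter.dupNamespace false
set_option linter.unusedSectionVars false
set_option linter.unusedVariables false

namespace Cfsg.Agent.H817.PD

open Subgroup Cfsg Cfsg.Agent.H988.CPi
open scoped Pointwise

universe u

/-- Hall `π`-subgroups are conjugate in every finite group -/
def Gross (π : Set ℕ) : Prop :=
  ∀ (X : Type u) [Group X] [Finite X] (H K : Subgroup X), IsPiHall π H → IsPiHall π K → ∃ g : X, K = MulAut.conj g • H

/-- the theorem for groups of order less than `n` -/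
def IH (π : Set ℕ) (n : ℕ) : Prop :=
  ∀ (X : Type u) [Group X] [Finite X], Nat.card X < n → ∀ LA KA LB KB : Subgroup X, PD π LA KA LB KB →
    PiN π (Nat.card ↥(LA ⊔ LB))

variable {π : Set ℕ} {G : Type u} [Group G] [Finite G] {LA KA LB KB : Subgroup G}

theorem card_eq_rel (H N : Subgroup G) : Nat.card H = Nat.card ↥(N ⊓ H) * N.relIndex H := by
  have h1 := (N.subgroupOf H).card_mul_index
  rw [← h1]
  congr 1
  rw [← card_map_of_injective H.subtype_injective, subgroupOf_map_subtype]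

theorem card_map_mk (H N : Subgroup G) [N.Normal] : Nat.card (H.map (QuotientGroup.mk' N)) = N.relIndex H := by
  rw [← relIndex_ker, QuotientGroup.ker_mk']

theorem card_quot_lt {N : Subgroup G} [N.Normal] (hN : N ≠ ⊥) : Nat.card (G ⧸ N) < Nat.card G := by
  have h1 := card_eq_card_quotient_mul_card_subgroup N
  have h2 : 1 < Nat.card N := (one_lt_card_iff_ne_bot N).2 hN
  have h3 := Nat.card_pos (α := G ⧸ N)
  nlinarith

theorem card_lt_of_ne_top {Z : Subgroup G} (hZ : Z ≠ ⊤) : Nat.card Z < Nat.card G := by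
  rcases lt_or_eq_of_le (card_le_card_group Z) with h | h
  · exact h
  · exact absurd (card_eq_iff_eq_top Z |>.1 h) hZ

namespace Min

variable (h : PD π LA KA LB KB) (ih : IH.{u} π (Nat.card G))
include h ih

theorem quot_good {N : Subgroup G} [N.Normal] (hN : N ≠ ⊥) : PiN π (N.relIndex (LA ⊔ LB)) := by
  have h1 := ih (G ⧸ N) (card_quot_lt hN) _ _ _ _ (h.quot N)
  rwa [← Subgroup.map_sup, card_map_mk] at h1

theorem sub_hall {Z : Subgroup G} (hZ : Z ≠ ⊤) (h1 : LA ≤ Z) (h2 : KA ≤ Z) :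
    IsPiHall π (LA.subgroupOf Z ⊔ LB.subgroupOf Z) :=
  (h.sub h1 h2).hall (ih Z (card_lt_of_ne_top hZ) _ _ _ _ (h.sub h1 h2))

theorem map_sub {Z : Subgroup G} (h1 : LA ≤ Z) :
    (LA.subgroupOf Z ⊔ LB.subgroupOf Z).map Z.subtype = LA ⊔ (LB ⊓ Z) := by
  rw [Subgroup.map_sup, subgroupOf_map_subtype, subgroupOf_map_subtype, inf_of_le_left h1]

/-- no proper subgroup contains `A` and `LB` -/
theorem proper {Z : Subgroup G} (hZ : Z ≠ ⊤) (h1 : LA ≤ Z) (h2 : KA ≤ Z) (h3 : LB ≤ Z) :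
    PiN π (Nat.card ↥(LA ⊔ LB)) := by
  have h4 := (sub_hall h ih hZ h1 h2).1
  have h5 : PiN π (Nat.card ↥(LA.subgroupOf Z ⊔ LB.subgroupOf Z)) := h4
  rwa [← card_map_of_injective Z.subtype_injective, map_sub h ih h1, inf_of_le_left h3] at h5

/-- two normal subgroups -/
theorem two_normal {N M : Subgroup G} [N.Normal] [M.Normal] (hN : N ≠ ⊥) (hM : M ≠ ⊥) (hNM : N ⊓ M = ⊥) :
    PiN π (Nat.card ↥(LA ⊔ LB)) := by
  have h1 := quot_good h ih hN
  have h2 := quot_good h ih hM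
  rw [card_eq_rel (LA ⊔ LB) N]
  refine PiN.mul ?_ h1
  have h3 := card_eq_rel (N ⊓ (LA ⊔ LB)) M
  have h4 : M ⊓ (N ⊓ (LA ⊔ LB)) = ⊥ := by
    rw [eq_bot_iff, ← hNM]
    exact le_inf (inf_le_right.trans inf_le_left) inf_le_left
  rw [h4, card_bot, one_mul] at h3
  rw [h3]
  refine PiN.of_dvd h2 ?_
  rw [← card_map_mk, ← card_map_mk]
  exact card_dvd_of_le (map_mono inf_le_right)

/-- the criterion with Hall subgroups of `N` -/
theorem crit {N P : Subgroup G} [N.Normal] (hN : N ≠ ⊥) (hPN : P ≤ N) (hP : PiN π (Nat.card P))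
    (hP' : PiN' π (P.relIndex N)) (h1 : LA ≤ normalizer (P : Set G)) {n : G} (hn : n ∈ N)
    (h2 : LB ≤ normalizer ((MulAut.conj n • P : Subgroup G) : Set G)) : PiN π (Nat.card ↥(LA ⊔ LB)) := by
  have h3 := quot_good h ih hN
  set Y : Subgroup G := LA ⊔ LB ⊔ N with hY
  have h4 : PiN π (N.relIndex Y) := by rw [hY, relIndex_sup_right]; exact h3
  have hNY : N ≤ Y := le_sup_right
  have hLB : LB ≤ Y := le_sup_right.trans le_sup_left
  obtain ⟨H, hH, h5, g, h6⟩ := dom_normalizer (L := LA) (L' := MulAut.conj n⁻¹ • LB) hPN hP hP' hNY h4 h.la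
    (by rw [Cfsg.Agent.Solvable.SZ.card_conj_smul]; exact h.lb)
    (le_inf h1 (le_sup_left.trans le_sup_left)) (by
      intro x hx
      rw [mem_conj_smul, inv_inv] at hx
      refine mem_inf.2 ⟨?_, ?_⟩
      · have h7 := mem_normalizer_iff.1 (h2 hx)
        rw [mem_normalizer_iff]
        intro y
        have h8 := h7 (n * y * n⁻¹)
        rw [mem_conj_smul, mem_conj_smul] at h8
        have e1 : n⁻¹ * (n * y * n⁻¹) * n = y := by group
        have e2 : n⁻¹ * (n * x * n⁻¹ * (n * y * n⁻¹) * (n * x * n⁻¹)⁻¹) * n = x * y * x⁻¹ := by group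
        rw [e1, e2] at h8
        exact h8
      · have h7 := Y.mul_mem (Y.mul_mem (Y.inv_mem (hNY hn)) (hLB hx)) (hNY hn)
        have e1 : n⁻¹ * (n * x * n⁻¹) * n = x := by group
        rwa [e1] at h7)
  refine h.good_of_conj hH h5 (g := n * g) ?_
  rw [conj_smul_le_iff] at h6 ⊢
  intro x hx
  have h7 := h6 (n⁻¹ * x * n) (by rw [mem_conj_smul, inv_inv]; simpa [mul_assoc] using hx)
  have e1 : (n * g)⁻¹ * x * (n * g) = g⁻¹ * (n⁻¹ * x * n) * g := by group
  rw [e1]
  exact h7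

theorem of_pi {N : Subgroup G} [N.Normal] (hN : N ≠ ⊥) (h1 : PiN π (Nat.card N)) :
    PiN π (Nat.card ↥(LA ⊔ LB)) := by
  rw [card_eq_rel (LA ⊔ LB) N]
  exact PiN.mul (h1.of_dvd (card_dvd_of_le inf_le_left)) (quot_good h ih hN)

theorem of_pi' {N : Subgroup G} [N.Normal] (hN : N ≠ ⊥) (h1 : PiN' π (Nat.card N)) :
    PiN π (Nat.card ↥(LA ⊔ LB)) := by
  refine crit h ih hN (P := ⊥) bot_le (by rw [card_bot]; exact PiN.one) (by rw [relIndex_bot_left]; exact h1) ?_
    (n := 1) (one_mem N) ?_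
  · intro x _
    rw [mem_normalizer_iff]
    intro y
    rw [mem_bot, mem_bot, conj_eq_one_iff]
  · intro x _
    rw [mem_normalizer_iff]
    intro y
    rw [map_one, one_smul, mem_bot, mem_bot, conj_eq_one_iff]

theorem hall_inter {Z N : Subgroup G} [N.Normal] (hNZ : N ≤ Z) {H : Subgroup Z} (hH : IsPiHall π H) :
    PiN' π ((H.map Z.subtype ⊓ N).relIndex N) := by
  have h1 := (isPiHall_subgroupOf hH (N.subgroupOf Z)).2
  have h2 : PiN' π (H.relIndex (N.subgroupOf Z)) := h1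
  have h3 : (H.map Z.subtype ⊓ N).relIndex N = H.relIndex (N.subgroupOf Z) := by
    rw [inf_relIndex_right]
    have h4 : H = (H.map Z.subtype).subgroupOf Z := by
      rw [subgroupOf, comap_map_eq_self_of_injective Z.subtype_injective]
    conv_rhs => rw [h4]
    rw [relIndex_subgroupOf hNZ]
  rw [h3]
  exact h2

/-- `A N ≠ G`, `B N ≠ G` -/
theorem two_proper (hG : Gross.{u} π) {N : Subgroup G} [N.Normal] (hN : N ≠ ⊥) (h1 : LA ⊔ KA ⊔ N ≠ ⊤)
    (h2 : LB ⊔ KB ⊔ N ≠ ⊤) : PiN π (Nat.card ↥(LA ⊔ LB)) := by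
  have c1 : LA ≤ LA ⊔ KA ⊔ N := le_sup_left.trans le_sup_left
  have c2 : KA ≤ LA ⊔ KA ⊔ N := le_sup_right.trans le_sup_left
  have c3 : LB ≤ LB ⊔ KB ⊔ N := le_sup_left.trans le_sup_left
  have c4 : KB ≤ LB ⊔ KB ⊔ N := le_sup_right.trans le_sup_left
  have e1 := sub_hall h ih h1 c1 c2
  have e2 := sub_hall h.symm ih h2 c3 c4
  set Z1 := LA ⊔ KA ⊔ N with hZ1
  set Z2 := LB ⊔ KB ⊔ N with hZ2
  set H1 := LA.subgroupOf Z1 ⊔ LB.subgroupOf Z1 with hH1
  set H2 := LB.subgroupOf Z2 ⊔ LA.subgroupOf Z2 with hH2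
  set P1 := H1.map Z1.subtype ⊓ N with hP1
  set P2 := H2.map Z2.subtype ⊓ N with hP2
  have f1 : PiN' π (P1.relIndex N) := hall_inter h ih le_sup_right e1
  have f2 : PiN' π (P2.relIndex N) := hall_inter h ih le_sup_right e2
  have g1 : PiN π (Nat.card P1) := by
    have : PiN π (Nat.card (H1.map Z1.subtype)) := by
      rw [card_map_of_injective Z1.subtype_injective]; exact e1.1
    exact this.of_dvd (card_dvd_of_le inf_le_left)
  have g2 : PiN π (Nat.card P2) := by
    have : PiN π (Nat.card (H2.map Z2.subtype)) := by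
      rw [card_map_of_injective Z2.subtype_injective]; exact e2.1
    exact this.of_dvd (card_dvd_of_le inf_le_left)
  have hall : ∀ P : Subgroup G, P ≤ N → PiN π (Nat.card P) → PiN' π (P.relIndex N) → IsPiHall π (P.subgroupOf N) := by
    intro P hPN i1 i2
    refine ⟨?_, i2⟩
    have : PiN π (Nat.card (P.subgroupOf N)) := by
      rw [Nat.card_congr (subgroupOfEquivOfLe hPN).toEquiv]; exact i1
    exact this
  have hP1N : P1 ≤ N := inf_le_right
  have hP2N : P2 ≤ N := inf_le_right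
  obtain ⟨g, hg⟩ := hG N _ _ (hall P1 hP1N g1 f1) (hall P2 hP2N g2 f2)
  obtain ⟨n, hn, hnP⟩ := Cfsg.Agent.Solvable.SZ.conj_of_subgroupOf N P1 P2 hP1N hP2N ⟨g, hg.symm⟩
  have norm : ∀ (X W : Subgroup G), X ≤ W → X ≤ normalizer ((W ⊓ N : Subgroup G) : Set G) := by
    intro X W hXW x hx
    rw [mem_normalizer_iff]
    intro y
    constructor
    · intro hy
      exact mem_inf.2 ⟨W.mul_mem (W.mul_mem (hXW hx) hy.1) (W.inv_mem (hXW hx)),
        (inferInstance : N.Normal).conj_mem y hy.2 x⟩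
    · intro hy
      have e : y = x⁻¹ * (x * y * x⁻¹) * x := by group
      rw [e]
      refine mem_inf.2 ⟨W.mul_mem (W.mul_mem (W.inv_mem (hXW hx)) hy.1) (hXW hx), ?_⟩
      simpa using (inferInstance : N.Normal).conj_mem _ hy.2 x⁻¹
  refine crit h ih hN hP1N g1 f1 ?_ hn ?_
  · apply norm
    rw [hH1, map_sub h ih c1]
    exact le_sup_left
  · rw [hnP]
    apply norm
    rw [hH2, map_sub h.symm ih c3]
    exact le_sup_left

/-- no proper normal subgroup contains `A` -/
theorem normal_proper (hG : Gross.{u} π) {Y : Subgroup G} [Y.Normal] (hY : Y ≠ ⊤) (h1 : LA ≤ Y) (h2 : KA ≤ Y) :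
    PiN π (Nat.card ↥(LA ⊔ LB)) := by
  have e1 := sub_hall h ih hY h1 h2
  have e2 := map_sub h ih h1
  set H1 := LA.subgroupOf Y ⊔ LB.subgroupOf Y with hH1
  set H := H1.map Y.subtype with hH
  have hHY : H ≤ Y := map_subtype_le H1
  have hcH : PiN π (Nat.card H) := by
    rw [hH, card_map_of_injective Y.subtype_injective]; exact e1.1
  have hnorm : LB ≤ normalizer (H : Set G) := by
    intro b hb
    -- `H ^ b` is a Hall subgroup of `Y`
    have hbY : MulAut.conj b • H ≤ Y := by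
      intro x hx
      rw [mem_conj_smul] at hx
      have := (inferInstance : Y.Normal).conj_mem _ (hHY hx) b
      simpa [mul_assoc] using this
    have hHsub : H.subgroupOf Y = H1 := by
      rw [hH, subgroupOf, comap_map_eq_self_of_injective Y.subtype_injective]
    have hcard2 : Nat.card ((MulAut.conj b • H).subgroupOf Y) = Nat.card H1 := by
      rw [Nat.card_congr (subgroupOfEquivOfLe hbY).toEquiv, Cfsg.Agent.Solvable.SZ.card_conj_smul, hH,
        card_map_of_injective Y.subtype_injective]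
    have hall2 : IsPiHall π ((MulAut.conj b • H).subgroupOf Y) := by
      refine ⟨by rw [hcard2]; exact e1.1, ?_⟩
      have h3 := ((MulAut.conj b • H).subgroupOf Y).card_mul_index
      have h4 := H1.card_mul_index
      rw [← h4, hcard2] at h3
      have h5 : ((MulAut.conj b • H).subgroupOf Y).index = H1.index :=
        Nat.eq_of_mul_eq_mul_left Nat.card_pos h3
      have : PiN' π ((MulAut.conj b • H).subgroupOf Y).index := by rw [h5]; exact e1.2
      exact this
    obtain ⟨y, hy⟩ := hG Y _ _ e1 hall2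
    obtain ⟨y', hy'Y, hy'⟩ := Cfsg.Agent.Solvable.SZ.conj_of_subgroupOf Y H (MulAut.conj b • H) hHY hbY
      ⟨y, by rw [hHsub]; exact hy.symm⟩
    obtain ⟨c, hc, d, hd, a, ha, a', ha', rfl⟩ := h.symm.prod y'
    have hcd : c * d ∈ Y := by
      have h9 := Y.mul_mem hy'Y (Y.inv_mem (Y.mul_mem (h1 ha) (h2 ha')))
      rwa [mul_inv_cancel_right] at h9
    obtain ⟨hcY, hdY⟩ := split_mem h.lb h.kb h.cb hc hd hcd
    -- the subgroup `R`
    set α := a * a' with hα
    have hR : MulAut.conj ((c * d)⁻¹ * b) • H = MulAut.conj α • H := by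
      rw [map_mul, mul_smul, ← hy', ← mul_smul, ← map_mul, inv_mul_cancel_left]
    have hH_le : H ≤ MulAut.conj α • H := by
      conv_lhs => rw [e2]
      refine sup_le ?_ ?_
      · rw [conj_smul_le_iff]
        intro x hx
        have h5 : α⁻¹ * x * α = a⁻¹ * x * a := by
          have e1 := h.ca (a⁻¹ * x * a) (LA.mul_mem (LA.mul_mem (LA.inv_mem ha) hx) ha) a' ha'
          calc (a * a')⁻¹ * x * (a * a') = a'⁻¹ * ((a⁻¹ * x * a) * a') := by group
            _ = a'⁻¹ * (a' * (a⁻¹ * x * a)) := by rw [e1]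
            _ = _ := by group
        rw [h5, e2]
        exact mem_sup_left (LA.mul_mem (LA.mul_mem (LA.inv_mem ha) hx) ha)
      · rw [← hR, conj_smul_le_iff]
        intro x hx
        rw [e2]
        refine mem_sup_right (mem_inf.2 ⟨?_, ?_⟩)
        · have h6 : d * (b * 1) = b * d := by rw [mul_one, h.cb b hb d hd]
          have h5 : ((c * d)⁻¹ * b)⁻¹ * x * ((c * d)⁻¹ * b) = b⁻¹ * (c * x * c⁻¹) * b := by
            have e3 := h.cb x hx.1 d hd
            have e4 : d * x * d⁻¹ = x := by rw [← e3]; group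
            calc ((c * d)⁻¹ * b)⁻¹ * x * ((c * d)⁻¹ * b) = b⁻¹ * (c * (d * x * d⁻¹) * c⁻¹) * b := by group
              _ = _ := by rw [e4]
          rw [h5]
          exact LB.mul_mem (LB.mul_mem (LB.inv_mem hb) (LB.mul_mem (LB.mul_mem hc hx.1) (LB.inv_mem hc))) hb
        · have := (inferInstance : Y.Normal).conj_mem x hx.2 ((c * d)⁻¹ * b)⁻¹
          simpa using this
    have hH_eq : H = MulAut.conj ((c * d)⁻¹ * b) • H := by
      rw [hR]
      apply eq_of_le_of_card_ge hH_le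
      rw [Cfsg.Agent.Solvable.SZ.card_conj_smul]
    have hmem : (c * d)⁻¹ * b ∈ normalizer (H : Set G) := by
      rw [mem_normalizer_iff]
      intro z
      constructor
      · intro hz
        rw [hH_eq, mem_conj_smul]
        have e3 : ((c * d)⁻¹ * b)⁻¹ * ((c * d)⁻¹ * b * z * ((c * d)⁻¹ * b)⁻¹) * ((c * d)⁻¹ * b) = z := by group
        rw [e3]
        exact hz
      · intro hz
        rw [hH_eq, mem_conj_smul] at hz
        have e3 : ((c * d)⁻¹ * b)⁻¹ * ((c * d)⁻¹ * b * z * ((c * d)⁻¹ * b)⁻¹) * ((c * d)⁻¹ * b) = z := by group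
        rw [e3] at hz
        exact hz
    have e5 : (c * d)⁻¹ * b = (c⁻¹ * b) * d⁻¹ := by
      have e3 := h.cb (c⁻¹ * b) (LB.mul_mem (LB.inv_mem hc) hb) d⁻¹ (KB.inv_mem hd)
      rw [e3]; group
    rw [e5] at hmem
    obtain ⟨h5, -⟩ := split_mem h.lb h.kb h.cb (LB.mul_mem (LB.inv_mem hc) hb) (KB.inv_mem hd) hmem
    have h6 : c ∈ normalizer (H : Set G) := by
      apply le_normalizer
      rw [e2]
      exact mem_sup_right (mem_inf.2 ⟨hc, hcY⟩)
    have := mul_mem h6 h5
    simpa using this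
  have h3 : PiN π (Nat.card ↥(LB ⊔ H)) := by
    have h4 := Cfsg.Agent.H263.ChermakDelgado.ncard_mul_inf LB H
    rw [← coe_mul_of_left_le_normalizer_right LB H hnorm] at h4
    have h5 : Nat.card ↥(LB ⊔ H) ∣ Nat.card LB * Nat.card H := ⟨_, by rw [← h4, ← Nat.card_coe_set_eq]; rfl⟩
    exact (h.lb.mul hcH).of_dvd h5
  refine h3.of_dvd (card_dvd_of_le (sup_le ?_ le_sup_left))
  refine le_trans ?_ le_sup_right
  rw [e2]
  exact le_sup_left

/-- `KA N = KB N` -/
theorem quot_eq {N : Subgroup G} [N.Normal] (h1 : LB ⊔ KB ⊔ N = ⊤) (hbad : ¬ PiN π (Nat.card ↥(LA ⊔ LB))) :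
    LA ≤ LB ⊔ N ∧ KA ⊔ N = KB ⊔ N := by
  have hq := h.quot N
  set q := QuotientGroup.mk' N with hqd
  set la := LA.map q
  set ka := KA.map q
  set lb := LB.map q
  set kb := KB.map q
  have hker : ∀ X : Subgroup G, (X.map q).comap q = X ⊔ N := by
    intro X
    rw [comap_map_eq, hqd, QuotientGroup.ker_mk']
  have hmapN : N.map q = ⊥ := by
    rw [Subgroup.map_eq_bot_iff, hqd, QuotientGroup.ker_mk']
  have e1 : lb ⊔ kb = ⊤ := by
    have := congrArg (Subgroup.map q) h1
    rw [Subgroup.map_sup, Subgroup.map_sup, hmapN, sup_bot_eq,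
      map_top_of_surjective q (QuotientGroup.mk'_surjective N)] at this
    exact this
  have key : ∀ x : G ⧸ N, (∃ c ∈ lb, ∃ d ∈ kb, x = c * d ∧ orderOf c ∣ orderOf x ∧ orderOf d ∣ orderOf x) := by
    intro x
    have hx : x ∈ lb ⊔ kb := by rw [e1]; exact mem_top x
    obtain ⟨c, hc, d, hd, rfl⟩ := (mem_sup_comm hq.cb).1 hx
    obtain ⟨h2, h3⟩ := split hq.lb hq.kb hq.cb hc hd
    exact ⟨c, hc, d, hd, rfl, orderOf_dvd_of_mem_zpowers h2, orderOf_dvd_of_mem_zpowers h3⟩
  have e2 : la ≤ lb := by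
    intro x hx
    obtain ⟨c, hc, d, hd, hx', h2, h3⟩ := key x
    have h4 : orderOf d = 1 := by
      apply eq_one_of_both (π := π)
      · exact hq.la.of_dvd (h3.trans (Subgroup.orderOf_dvd_natCard la hx))
      · exact hq.kb.of_dvd (Subgroup.orderOf_dvd_natCard kb hd)
    rw [orderOf_eq_one_iff] at h4
    rw [hx', h4, mul_one]
    exact hc
  have e3 : ka ≤ kb := by
    intro x hx
    obtain ⟨c, hc, d, hd, hx', h2, h3⟩ := key x
    have h4 : orderOf c = 1 := by
      apply eq_one_of_both (π := π)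
      · exact hq.lb.of_dvd (Subgroup.orderOf_dvd_natCard lb hc)
      · exact hq.ka.of_dvd (h2.trans (Subgroup.orderOf_dvd_natCard ka hx))
    rw [orderOf_eq_one_iff] at h4
    rw [hx', h4, one_mul]
    exact hd
  have e4 : lb ⊔ ka = ⊤ := by
    have hZ : LA ⊔ KA ⊔ LB ⊔ N = ⊤ := by
      by_contra hne
      exact hbad (proper h ih hne (le_sup_left.trans (le_sup_left.trans le_sup_left))
        (le_sup_right.trans (le_sup_left.trans le_sup_left)) (le_sup_right.trans le_sup_left))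
    have := congrArg (Subgroup.map q) hZ
    rw [Subgroup.map_sup, Subgroup.map_sup, Subgroup.map_sup, hmapN, sup_bot_eq,
      map_top_of_surjective q (QuotientGroup.mk'_surjective N)] at this
    rw [← this]
    apply le_antisymm
    · exact sup_le le_sup_right (le_sup_right.trans le_sup_left)
    · exact sup_le (sup_le (e2.trans le_sup_left) le_sup_right) le_sup_left
  have e5 : kb ≤ ka := by
    intro x hx
    have hx2 : x ∈ lb ⊔ ka := by rw [e4]; exact mem_top x
    obtain ⟨l, hl, k, hk, rfl⟩ := (mem_sup_comm (fun a ha b hb => hq.cb a ha b (e3 hb))).1 hx2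
    have h2 : l ∈ kb := by
      have := kb.mul_mem hx (kb.inv_mem (e3 hk))
      simpa using this
    have h3 : l ∈ lb ⊓ kb := ⟨hl, h2⟩
    rw [eq_bot_of_coprime hq.lb hq.kb, mem_bot] at h3
    rw [h3, one_mul]
    exact hk
  have e6 : ka = kb := le_antisymm e3 e5
  refine ⟨?_, ?_⟩
  · rw [← hker LB]
    exact (le_comap_map q LA).trans (comap_mono e2)
  · rw [← hker KA, ← hker KB]
    exact congrArg _ e6

end Min

/-- The minimal counterexample. -/
structure MinCex (π : Set ℕ) {G : Type u} [Group G] [Finite G] (LA KA LB KB N : Subgroup G) : Prop where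
  pd : PD π LA KA LB KB
  la : LA ≠ ⊥
  lb : LB ≠ ⊥
  normal : N.Normal
  min : ∀ M : Subgroup G, M.Normal → M ≤ N → M = ⊥ ∨ M = N
  nab : ¬ ∀ x ∈ N, ∀ y ∈ N, Commute x y
  npi' : ¬ PiN' π (Nat.card N)
  cent : Subgroup.centralizer (N : Set G) = ⊥
  top : LB ⊔ KB ⊔ N = ⊤
  lab : LA ≤ LB ⊔ N
  kab : KA ⊔ N = KB ⊔ N
  nor : ∀ Y : Subgroup G, Y.Normal → LA ≤ Y → KA ≤ Y → Y = ⊤

theorem exists_minimal_normal (K : Subgroup G) [K.Normal] (hK : K ≠ ⊥) :
    ∃ N : Subgroup G, N.Normal ∧ N ≠ ⊥ ∧ N ≤ K ∧ ∀ M : Subgroup G, M.Normal → M ≤ N → M = ⊥ ∨ M = N := by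
  have hfin : {T : Subgroup G | T.Normal ∧ T ≠ ⊥ ∧ T ≤ K}.Finite := Set.toFinite _
  have hne : {T : Subgroup G | T.Normal ∧ T ≠ ⊥ ∧ T ≤ K}.Nonempty := ⟨K, inferInstance, hK, le_rfl⟩
  obtain ⟨T, ⟨hT0, hTn, hTK⟩, hTmin⟩ := hfin.exists_minimal hne
  refine ⟨T, hT0, hTn, hTK, fun S hS hST => ?_⟩
  by_cases hS0 : S = ⊥
  · exact Or.inl hS0
  · exact Or.inr (le_antisymm hST (hTmin ⟨hS, hS0, hST.trans hTK⟩ hST))

theorem isPGroup_of_min_abelian {N : Subgroup G} [N.Normal] (hN : N ≠ ⊥)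
    (hmin : ∀ M : Subgroup G, M.Normal → M ≤ N → M = ⊥ ∨ M = N)
    (hab : ∀ x ∈ N, ∀ y ∈ N, Commute x y) : ∃ p : ℕ, p.Prime ∧ IsPGroup p N := by
  have h1 : 1 < Nat.card N := (one_lt_card_iff_ne_bot N).2 hN
  obtain ⟨p, hp, hpd⟩ := Nat.exists_prime_and_dvd h1.ne'
  refine ⟨p, hp, ?_⟩
  have hFp : Fact p.Prime := ⟨hp⟩
  -- the subgroup of elements of order dividing `p`
  let M : Subgroup G :=
    { carrier := {x | x ∈ N ∧ x ^ p = 1}
      one_mem' := ⟨one_mem N, one_pow p⟩
      mul_mem' := by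
        rintro x y ⟨hx, hx'⟩ ⟨hy, hy'⟩
        exact ⟨mul_mem hx hy, by rw [(hab x hx y hy).mul_pow, hx', hy', one_mul]⟩
      inv_mem' := by
        rintro x ⟨hx, hx'⟩
        exact ⟨inv_mem hx, by rw [inv_pow, hx', inv_one]⟩ }
  have hM : M.Normal := by
    constructor
    rintro x ⟨hx, hx'⟩ g
    exact ⟨(inferInstance : N.Normal).conj_mem x hx g, by rw [conj_pow, hx', mul_one, mul_inv_cancel]⟩
  obtain ⟨x, hx⟩ := exists_prime_orderOf_dvd_card' (G := N) p hpd
  have hxM : (x : G) ∈ M := ⟨x.2, by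
    have := pow_orderOf_eq_one x
    rw [hx] at this
    exact congrArg Subtype.val this⟩
  rcases hmin M hM (fun y hy => hy.1) with h2 | h2
  · exfalso
    rw [h2, mem_bot] at hxM
    have : x = 1 := Subtype.ext hxM
    rw [this, orderOf_one] at hx
    exact hp.one_lt.ne hx
  · intro y
    refine ⟨1, ?_⟩
    have h3 : (y : G) ∈ M := by rw [h2]; exact y.2
    rw [pow_one]
    exact Subtype.ext h3.2

/-- **The minimal counterexample.** -/
theorem exists_minCex (hG : Gross.{u} π) (h : PD π LA KA LB KB) (ih : IH.{u} π (Nat.card G))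
    (hbad : ¬ PiN π (Nat.card ↥(LA ⊔ LB))) :
    ∃ LA KA LB KB N : Subgroup G, MinCex π LA KA LB KB N := by
  have htop : (⊤ : Subgroup G) ≠ ⊥ := by
    intro h0
    apply hbad
    have : LA ⊔ LB = ⊥ := eq_bot_iff.2 (by rw [← h0]; exact le_top)
    rw [this, card_bot]
    exact PiN.one
  obtain ⟨N, hN, hN1, -, hmin⟩ := exists_minimal_normal (⊤ : Subgroup G) htop
  have hnab : ¬ ∀ x ∈ N, ∀ y ∈ N, Commute x y := by
    intro hab
    obtain ⟨p, hp, hpN⟩ := isPGroup_of_min_abelian hN1 hmin hab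
    have := Fact.mk hp
    obtain ⟨n, hn⟩ := IsPGroup.iff_card.1 hpN
    by_cases hpπ : p ∈ π
    · apply hbad
      apply Min.of_pi h ih hN1
      rw [hn]
      intro r hr hrd
      rw [(Nat.prime_dvd_prime_iff_eq hr hp).1 (hr.dvd_of_dvd_pow hrd)]
      exact hpπ
    · apply hbad
      apply Min.of_pi' h ih hN1
      rw [hn]
      intro r hr hrπ hrd
      rw [(Nat.prime_dvd_prime_iff_eq hr hp).1 (hr.dvd_of_dvd_pow hrd)] at hrπ
      exact hpπ hrπ
  have hcent : Subgroup.centralizer (N : Set G) = ⊥ := by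
    by_contra hC
    obtain ⟨M, hM, hM1, hMC, -⟩ := exists_minimal_normal (Subgroup.centralizer (N : Set G)) hC
    rcases hmin (M ⊓ N) inferInstance inf_le_right with h1 | h1
    · exact hbad (Min.two_normal h ih hN1 hM1 (by rw [inf_comm]; exact h1))
    · apply hnab
      intro x hx y hy
      have h2 : x ∈ M := by rw [← h1] at hx; exact hx.1
      exact (mem_centralizer_iff.1 (hMC h2) y hy).symm
  have hnpi' : ¬ PiN' π (Nat.card N) := fun h1 => hbad (Min.of_pi' h ih hN1 h1)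
  -- up to symmetry
  have main : ∀ LA KA LB KB : Subgroup G, PD π LA KA LB KB → ¬ PiN π (Nat.card ↥(LA ⊔ LB)) →
      LB ⊔ KB ⊔ N = ⊤ → MinCex π LA KA LB KB N := by
    intro LA KA LB KB h hbad h1
    obtain ⟨h2, h3⟩ := Min.quot_eq h ih h1 hbad
    refine ⟨h, ?_, ?_, hN, hmin, hnab, hnpi', hcent, h1, h2, h3, ?_⟩
    · rintro rfl
      apply hbad
      rw [bot_sup_eq]
      exact h.lb
    · rintro rfl
      apply hbad
      rw [sup_bot_eq]
      exact h.la
    · intro Y hY h4 h5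
      by_contra hne
      exact hbad (Min.normal_proper h ih hG hne h4 h5)
  by_cases h1 : LB ⊔ KB ⊔ N = ⊤
  · exact ⟨LA, KA, LB, KB, N, main _ _ _ _ h hbad h1⟩
  · by_cases h2 : LA ⊔ KA ⊔ N = ⊤
    · exact ⟨LB, KB, LA, KA, N, main _ _ _ _ h.symm (by rwa [sup_comm]) h2⟩
    · exact absurd (Min.two_proper h ih hG hN1 h2 h1) hbad

end Cfsg.Agent.H817.PD
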