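import Cfsg.Agent.H817.PD.Orbits
import Cfsg.Agent.H160.PD.Def

/-!
# Products of two π-decomposable groups: the configuration on a simple factor (helper817, for S4246)

`main` : S4246 from `Gross π` (S4350), the rows `Row S` and the 2-part of `Aut S`.
-/

set_option autoImplicit false
set_option linter.dupNamespace false
set_option linter.unusedSectionVars false
set_option linter.unusedVariables false

namespace Cfsg.Agent.H817.PD

open Subgroup Cfsg Cfsg.Agent.H988.CPi Cfsg.Agent.H803.S74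
open Cfsg.Agent.H160.PD (tr Cfg Row)
open scoped Pointwise

universe u

variable {π : Set ℕ} {G : Type u} [Group G]

/-- the group of automorphisms of `S` induced by the elements of `R` which normalise `S` -/
noncomputable def im (S R : Subgroup G) : Subgroup (MulAut S) :=
  (R.subgroupOf (normalizer (S : Set G))).map S.normalizerMonoidHom

theorem mem_im {S R : Subgroup G} {b : MulAut S} :
    b ∈ im S R ↔ ∃ (g : G) (hg : g ∈ normalizer (S : Set G)), g ∈ R ∧ S.normalizerMonoidHom ⟨g, hg⟩ = b := by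
  constructor
  · rintro ⟨⟨g, hg⟩, h1, h2⟩
    exact ⟨g, hg, h1, h2⟩
  · rintro ⟨g, hg, h1, h2⟩
    exact ⟨⟨g, hg⟩, h1, h2⟩

theorem im_apply {S : Subgroup G} {g : G} (hg : g ∈ normalizer (S : Set G)) (s : S) :
    ((S.normalizerMonoidHom ⟨g, hg⟩ s : S) : G) = g * s * g⁻¹ := rfl

theorem card_im_dvd (S R : Subgroup G) : Nat.card (im S R) ∣ Nat.card R := by
  refine (card_map_dvd _ _).trans ?_
  rw [← card_map_of_injective (normalizer (S : Set G)).subtype_injective, subgroupOf_map_subtype]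
  exact card_dvd_of_le inf_le_left

theorem im_comm {S L K : Subgroup G} (hc : ∀ a ∈ L, ∀ b ∈ K, a * b = b * a) :
    ∀ a ∈ im S L, ∀ b ∈ im S K, a * b = b * a := by
  intro a ha b hb
  obtain ⟨x, hx, hxL, rfl⟩ := mem_im.1 ha
  obtain ⟨y, hy, hyK, rfl⟩ := mem_im.1 hb
  rw [← map_mul, ← map_mul]
  congr 1
  exact Subtype.ext (hc x hxL y hyK)

section sys

variable [Finite G] {N : Subgroup G} [N.Normal] {m : ℕ} {T : Fin m → Subgroup G} {e : N ≃* ∀ i, T i}
  (h : Sys N T e) {σ : G →* Equiv.Perm (Fin m)} (hσ : ∀ g i, T (σ g i) = (T i).map (MulAut.conj g).toMonoidHom)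
include h hσ

/-- elements of `N` act on `T i` as their coordinate. -/
theorem conj_coord (n : N) (i : Fin m) (t : T i) :
    (n : G) * t * (n : G)⁻¹ = (e n i : G) * t * (e n i : G)⁻¹ := by
  classical
  have h1 : e (⟨e n i, h.le i (e n i).2⟩ : N) = Pi.mulSingle i (e n i) := by
    apply e.symm.injective
    rw [MulEquiv.symm_apply_apply]
    exact Subtype.ext (h.single i (e n i)).symm
  have h2 : e ((⟨e n i, h.le i (e n i).2⟩ : N)⁻¹ * n) i = 1 := by
    rw [map_mul, map_inv, h1, Pi.mul_apply, Pi.inv_apply, Pi.mulSingle_eq_same]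
    simp
  have h3 : ((e n i : G)⁻¹ * n) * t = t * ((e n i : G)⁻¹ * n) := (h.one _ i).1 h2 t t.2
  have h4 : (n : G) * t = (e n i : G) * t * ((e n i : G)⁻¹ * n) := by
    calc (n : G) * t = (e n i : G) * (((e n i : G)⁻¹ * n) * t) := by group
      _ = _ := by rw [h3]; group
  rw [h4]; group

/-- the coordinates of the elements of `R ⊓ N` are in the trace of `im R` -/
theorem coord_mem_tr {R : Subgroup G} (n : N) (i : Fin m) (hn : (n : G) ∈ R) : e n i ∈ tr (im (T i) R) := by
  rw [Cfsg.Agent.H160.PD.mem_tr, mem_im]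
  refine ⟨n, h.norm i n.2, hn, ?_⟩
  ext t
  rw [im_apply, MulAut.conj_apply]
  exact conj_coord h hσ n i t

/-- `LA` centralised by a transitive group is faithful on each factor -/
theorem card_la_dvd (i0 : Fin m) {L K : Subgroup G} (hc : ∀ a ∈ L, ∀ b ∈ K, a * b = b * a) (hL : L ≤ σ.ker)
    (ht : ∀ i, ∃ k ∈ K, σ k i0 = i) (hcent : Subgroup.centralizer (N : Set G) = ⊥) :
    Nat.card L ∣ Nat.card (im (T i0) L) := by
  let f : L →* im (T i0) L :=
    { toFun := fun x => ⟨(T i0).normalizerMonoidHom ⟨x, ker_le_normalizer h hσ i0 (hL x.2)⟩,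
        mem_im.2 ⟨x, _, x.2, rfl⟩⟩
      map_one' := by
        apply Subtype.ext
        exact map_one _
      map_mul' := fun x y => by
        apply Subtype.ext
        show (T i0).normalizerMonoidHom _ = (T i0).normalizerMonoidHom _ * (T i0).normalizerMonoidHom _
        rw [← map_mul]; rfl }
  apply Subgroup.card_dvd_of_injective f
  rw [injective_iff_map_eq_one]
  intro x hx
  have h1 : ∀ s ∈ T i0, (x : G) * s = s * x := by
    intro s hs
    have h2 : (T i0).normalizerMonoidHom ⟨x, ker_le_normalizer h hσ i0 (hL x.2)⟩ = 1 := congrArg Subtype.val hx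
    have h3 : (x : G) * s * (x : G)⁻¹ = s := by
      have := congrArg (fun z : MulAut (T i0) => ((z ⟨s, hs⟩ : T i0) : G)) h2
      exact this
    calc (x : G) * s = ((x : G) * s * (x : G)⁻¹) * x := by group
      _ = s * x := by rw [h3]
  have h4 : (x : G) ∈ Subgroup.centralizer (N : Set G) := by
    apply mem_centralizer h hσ
    intro i t hti
    obtain ⟨k, hk, rfl⟩ := ht i
    rw [hσ] at hti
    obtain ⟨s, hs, rfl⟩ := hti
    have h5 := h1 s hs
    have h6 : (x : G) * k = k * x := hc x x.2 k hk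
    have h7 : (x : G) * k⁻¹ = k⁻¹ * x := hc x x.2 k⁻¹ (inv_mem hk)
    show (x : G) * (k * s * k⁻¹) = (k * s * k⁻¹) * x
    calc (x : G) * (k * s * k⁻¹) = ((x : G) * k) * s * k⁻¹ := by group
      _ = k * ((x : G) * s) * k⁻¹ := by rw [h6]; group
      _ = k * s * ((x : G) * k⁻¹) := by rw [h5]; group
      _ = _ := by rw [h7]; group
  rw [hcent, mem_bot] at h4
  exact Subtype.ext h4

/-- `L ⊓ N` centralised by a transitive group is faithful on each factor -/
theorem card_inf_dvd (i0 : Fin m) {L K : Subgroup G} (hc : ∀ a ∈ L, ∀ b ∈ K, a * b = b * a)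
    (ht : ∀ i, ∃ k ∈ K, σ k i0 = i) : Nat.card ↥(L ⊓ N) ∣ Nat.card (tr (im (T i0) L)) := by
  let f : ↥(L ⊓ N) →* tr (im (T i0) L) :=
    { toFun := fun x => ⟨e ⟨x, x.2.2⟩ i0, coord_mem_tr h hσ ⟨x, x.2.2⟩ i0 x.2.1⟩
      map_one' := by
        apply Subtype.ext
        show e 1 i0 = 1
        rw [map_one]; rfl
      map_mul' := fun x y => by
        apply Subtype.ext
        show e (⟨x, x.2.2⟩ * ⟨y, y.2.2⟩) i0 = e ⟨x, x.2.2⟩ i0 * e ⟨y, y.2.2⟩ i0
        rw [map_mul]; rfl }
  apply Subgroup.card_dvd_of_injective f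
  rw [injective_iff_map_eq_one]
  intro x hx
  have h0 : e ⟨x, x.2.2⟩ i0 = 1 := congrArg Subtype.val hx
  have h1 : e ⟨x, x.2.2⟩ = 1 := by
    funext i
    obtain ⟨k, hk, rfl⟩ := ht i
    have h2 := coord h hσ k i0 ⟨x, x.2.2⟩
    have h3 : MulAut.conjNormal k (⟨x, x.2.2⟩ : N) = ⟨x, x.2.2⟩ := by
      apply Subtype.ext
      rw [MulAut.conjNormal_apply]
      show k * (x : G) * k⁻¹ = x
      rw [← hc x x.2.1 k hk, mul_inv_cancel_right]
    rw [h3, h0] at h2
    apply Subtype.ext
    rw [h2]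
    simp
  have h2 : (⟨x, x.2.2⟩ : N) = 1 := e.injective (by rw [h1, map_one])
  exact Subtype.ext (congrArg (fun z : N => (z : G)) h2)

theorem card_k_dvd (i0 : Fin m) {K : Subgroup G} (ht : ∀ i, ∃ k ∈ K, σ k i0 = i)
    (hcent : Subgroup.centralizer (N : Set G) = ⊥) :
    Nat.card K ∣ m.factorial * Nat.card (im (T i0) K) ^ m := by
  choose k hkK hk using ht
  let ρ : K →* Equiv.Perm (Fin m) := σ.comp K.subtype
  have h1 : Nat.card ρ.ker ∣ Nat.card (im (T i0) K) ^ Nat.card (Fin m) := by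
    let j : ρ.ker →* σ.ker :=
      { toFun := fun x => ⟨((x : K) : G), x.2⟩
        map_one' := rfl
        map_mul' := fun _ _ => rfl }
    have hmem : ∀ i (x : ρ.ker), psiG h hσ i0 (k i) (j x) ∈ im (T i0) K := by
      intro i x
      refine mem_im.2 ⟨(k i)⁻¹ * ((x : K) : G) * k i, ?_, ?_, ?_⟩
      · apply ker_le_normalizer h hσ i0
        have : ((x : K) : G) ∈ σ.ker := x.2
        have h2 := (inferInstance : σ.ker.Normal).conj_mem _ this (k i)⁻¹
        rwa [inv_inv] at h2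
      · exact mul_mem (mul_mem (inv_mem (hkK i)) (x : K).2) (hkK i)
      · ext t
        rw [im_apply, psiG_apply]
        rfl
    refine card_dvd_pow (fun i : Fin m => ((psiG h hσ i0 (k i)).comp j).codRestrict (im (T i0) K) (hmem i)) ?_
    intro x hx
    have h3 : ((x : K) : G) ∈ Subgroup.centralizer (N : Set G) := by
      apply mem_centralizer h hσ
      intro i
      have h4 : psiG h hσ i0 (k i) (j x) = 1 := congrArg Subtype.val (hx i)
      have h5 := psiG_eq_one h hσ i0 (k i) (j x) h4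
      rw [hk] at h5
      exact h5
    rw [hcent, mem_bot] at h3
    exact Subtype.ext (Subtype.ext h3)
  rw [Nat.card_fin] at h1
  have h2 : Nat.card K = Nat.card ρ.range * Nat.card ρ.ker := by
    have h3 := card_mul_index ρ.ker
    rw [index_ker] at h3
    rw [← h3, mul_comm]
  rw [h2]
  refine mul_dvd_mul ?_ h1
  have := card_subgroup_dvd_card ρ.range
  rwa [Nat.card_perm, Nat.card_fin] at this

theorem card_k_inf_dvd (i0 : Fin m) {K : Subgroup G} (ht : ∀ i, ∃ k ∈ K, σ k i0 = i) :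
    Nat.card ↥(K ⊓ N) ∣ Nat.card (tr (im (T i0) K)) ^ m := by
  choose k hkK hk using ht
  have hmem : ∀ i (x : ↥(K ⊓ N)), e (MulAut.conjNormal (H := N) (k i)⁻¹ ⟨x, x.2.2⟩) i0 ∈ tr (im (T i0) K) := by
    intro i x
    apply coord_mem_tr h hσ
    rw [MulAut.conjNormal_apply, inv_inv]
    exact mul_mem (mul_mem (inv_mem (hkK i)) x.2.1) (hkK i)
  have h1 : Nat.card ↥(K ⊓ N) ∣ Nat.card (tr (im (T i0) K)) ^ Nat.card (Fin m) := by
    let f : ∀ i : Fin m, ↥(K ⊓ N) →* tr (im (T i0) K) := fun i =>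
      { toFun := fun x => ⟨e (MulAut.conjNormal (H := N) (k i)⁻¹ ⟨x, x.2.2⟩) i0, hmem i x⟩
        map_one' := by
          apply Subtype.ext
          show e (MulAut.conjNormal (H := N) (k i)⁻¹ 1) i0 = 1
          rw [map_one, map_one]; rfl
        map_mul' := fun x y => by
          apply Subtype.ext
          show e (MulAut.conjNormal (H := N) (k i)⁻¹ (⟨x, x.2.2⟩ * ⟨y, y.2.2⟩)) i0 =
            e (MulAut.conjNormal (H := N) (k i)⁻¹ ⟨x, x.2.2⟩) i0 *
              e (MulAut.conjNormal (H := N) (k i)⁻¹ ⟨y, y.2.2⟩) i0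
          rw [map_mul, map_mul]; rfl }
    refine card_dvd_pow f ?_
    intro x hx
    have h2 : e ⟨x, x.2.2⟩ = 1 := by
      funext i
      have h3 : e (MulAut.conjNormal (H := N) (k i)⁻¹ ⟨x, x.2.2⟩) i0 = 1 := congrArg Subtype.val (hx i)
      have h4 := coord h hσ (k i) i0 (MulAut.conjNormal (H := N) (k i)⁻¹ ⟨x, x.2.2⟩)
      rw [h3, hk] at h4
      have h5 : MulAut.conjNormal (H := N) (k i) (MulAut.conjNormal (H := N) (k i)⁻¹ ⟨x, x.2.2⟩) = ⟨x, x.2.2⟩ := by
        apply Subtype.ext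
        rw [MulAut.conjNormal_apply, MulAut.conjNormal_apply]
        group
      rw [h5] at h4
      apply Subtype.ext
      rw [h4]
      simp
    have h3 : (⟨x, x.2.2⟩ : N) = 1 := e.injective (by rw [h2, map_one])
    exact Subtype.ext (congrArg (fun z : N => (z : G)) h3)
  rwa [Nat.card_fin] at h1

theorem fact_le {a b : ℕ} (ha : a ≠ 0) (hb : b ≠ 0) (hab : a ∣ b) (r : ℕ) : a.factorization r ≤ b.factorization r :=
  (Nat.factorization_le_iff_dvd ha hb).2 hab r

theorem num_L (i0 : Fin m) {LA KA LB KB : Subgroup G} (hpd : PD π LA KA LB KB) (hLA : LA ≤ σ.ker)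
    (hKA : ∀ i, ∃ k ∈ KA, σ k i0 = i) (hKB : ∀ i, ∃ k ∈ KB, σ k i0 = i)
    (hcent : Subgroup.centralizer (N : Set G) = ⊥) {r : ℕ} (hr : r.Prime) (hrπ : r ∈ π) :
    (Nat.card (T i0)).factorization r ≤
      (Nat.card (im (T i0) LA)).factorization r + (Nat.card (tr (im (T i0) LB))).factorization r := by
  have n1 := hpd.num_pi N hr hrπ
  have n2 : (Nat.card N).factorization r = m * (Nat.card (T i0)).factorization r := by
    rw [card_N h hσ i0, Nat.factorization_pow, Finsupp.smul_apply, smul_eq_mul]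
  have n3 := fact_le h hσ Nat.card_pos.ne' Nat.card_pos.ne' (card_la_dvd h hσ i0 hpd.ca hLA hKA hcent) r
  have n4 := fact_le h hσ Nat.card_pos.ne' Nat.card_pos.ne' (card_inf_dvd h hσ i0 hpd.cb hKB) r
  have hm : 1 ≤ m := Nat.one_le_iff_ne_zero.2 (by rintro rfl; exact i0.elim0)
  have n5 : 1 * (Nat.card (T i0)).factorization r ≤ m * (Nat.card (T i0)).factorization r :=
    Nat.mul_le_mul_right _ hm
  omega

theorem num_K (i0 : Fin m) {LA KA LB KB : Subgroup G} (hpd : PD π LA KA LB KB)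
    (hKA : ∀ i, ∃ k ∈ KA, σ k i0 = i) (hKB : ∀ i, ∃ k ∈ KB, σ k i0 = i)
    (hcent : Subgroup.centralizer (N : Set G) = ⊥) {r : ℕ} (hr : r.Prime) (hrπ : r ∉ π) :
    (Nat.card (T i0)).factorization r ≤
      (Nat.card (im (T i0) KA)).factorization r + (Nat.card (tr (im (T i0) KB))).factorization r := by
  have hF : Fact r.Prime := ⟨hr⟩
  have n1 := hpd.num_pi' N hr hrπ
  have n2 : (Nat.card N).factorization r = m * (Nat.card (T i0)).factorization r := by
    rw [card_N h hσ i0, Nat.factorization_pow, Finsupp.smul_apply, smul_eq_mul]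
  have hm : m ≠ 0 := by rintro rfl; exact i0.elim0
  have n3 := fact_le h hσ Nat.card_pos.ne'
    (Nat.mul_ne_zero (Nat.factorial_ne_zero _) (pow_ne_zero _ Nat.card_pos.ne')) (card_k_dvd h hσ i0 hKA hcent) r
  rw [Nat.factorization_mul (Nat.factorial_ne_zero _) (pow_ne_zero _ Nat.card_pos.ne'), Finsupp.add_apply,
    Nat.factorization_pow, Finsupp.smul_apply, smul_eq_mul] at n3
  have n4 := fact_le h hσ Nat.card_pos.ne' (pow_ne_zero _ Nat.card_pos.ne') (card_k_inf_dvd h hσ i0 hKB) r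
  rw [Nat.factorization_pow, Finsupp.smul_apply, smul_eq_mul] at n4
  have n5 := padicValNat_factorial_lt_of_ne_zero r hm
  rw [← Nat.factorization_def _ hr] at n5
  rw [n2] at n1
  by_contra hcon
  rw [not_le] at hcon
  set s := (Nat.card (T i0)).factorization r
  set a := (Nat.card (im (T i0) KA)).factorization r
  set b := (Nat.card (tr (im (T i0) KB))).factorization r
  have n6 : m * (a + b + 1) ≤ m * s := Nat.mul_le_mul_left _ hcon
  have n7 : m * (a + b + 1) = m * a + m * b + m := by ring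
  omega

end sys

/-- **The configuration.** -/
theorem MinCex.cfg [Finite G] {LA KA LB KB N : Subgroup G} (hm : MinCex π LA KA LB KB N) (h2 : 2 ∉ π) {m : ℕ}
    {T : Fin m → Subgroup G} {e : N ≃* ∀ i, T i} (h : Sys N T e) (i0 : Fin m)
    (hout : (Nat.card (MulAut (T i0))).factorization 2 + 1 ≤ 2 * (Nat.card (T i0)).factorization 2) :
    Cfg π (im (T i0) LA) (im (T i0) KA) (im (T i0) LB) (im (T i0) KB) := by
  have hN := hm.normal
  obtain ⟨σ, hσ⟩ := h.exists_sigma
  have hLA := la_le_ker hm h hσ h2 i0 hout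
  have hLB := lb_le_ker hm h hσ hLA
  have hKA : ∀ i, ∃ k ∈ KA, σ k i0 = i := fun i => ka_transitive hm h hσ hLB i0 i
  have hKB : ∀ i, ∃ k ∈ KB, σ k i0 = i := fun i => kb_transitive hm h hσ hLB i0 i
  have cA := card_la_dvd h hσ i0 hm.pd.ca hLA hKA hm.cent
  have cB := card_la_dvd h hσ i0 hm.pd.cb hLB hKB hm.cent
  refine ⟨h2, ?_, ?_, ?_, ?_, ?_, im_comm hm.pd.ca, im_comm hm.pd.cb, ?_, ?_, ?_, ?_, ?_, ?_⟩
  · have h3 := hm.npi'
    rw [PiN'] at h3
    push Not at h3
    obtain ⟨r, hr, hrπ, hrN⟩ := h3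
    refine ⟨r, hr, hrπ, ?_⟩
    rw [card_N h hσ i0] at hrN
    exact hr.dvd_of_dvd_pow hrN
  · intro r hr hd
    exact hm.pd.la r hr (hd.trans (card_im_dvd _ _))
  · intro r hr hd
    exact hm.pd.lb r hr (hd.trans (card_im_dvd _ _))
  · intro r hr hd hrπ
    exact hm.pd.ka r hr hrπ (hd.trans (card_im_dvd _ _))
  · intro r hr hd hrπ
    exact hm.pd.kb r hr hrπ (hd.trans (card_im_dvd _ _))
  · intro h0
    rw [h0, card_bot] at cA
    exact hm.la (card_eq_one.1 (Nat.dvd_one.1 cA))
  · intro h0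
    rw [h0, card_bot] at cB
    exact hm.lb (card_eq_one.1 (Nat.dvd_one.1 cB))
  · intro r hr hrπ
    exact num_L h hσ i0 hm.pd hLA hKA hKB hm.cent hr hrπ
  · intro r hr hrπ
    exact num_L h hσ i0 hm.pd.symm hLB hKB hKA hm.cent hr hrπ
  · intro r hr hrπ
    exact num_K h hσ i0 hm.pd hKA hKB hm.cent hr hrπ
  · intro r hr hrπ
    exact num_K h hσ i0 hm.pd.symm hKB hKA hm.cent hr hrπ

/-- the 2-part of `Aut S` -/
def OutTwo (S : Type*) [Group S] : Prop :=
  (Nat.card (MulAut S)).factorization 2 + 1 ≤ 2 * (Nat.card S).factorization 2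

/-- **S4246** from S4350, the rows and the 2-part of `Aut S`. -/
theorem main (h2 : 2 ∉ π) (hG : Gross.{u} π)
    (hRow : ∀ (S : Type u) [Group S] [Finite S] [IsSimpleGroup S], ¬ IsMulCommutative S → Row S)
    (hOut : ∀ (S : Type u) [Group S] [Finite S] [IsSimpleGroup S], ¬ IsMulCommutative S → OutTwo S) :
    ∀ n : ℕ, IH.{u} π n := by
  intro n
  induction n with
  | zero => intro X _ _ hX; omega
  | succ n ih =>
    intro X _ _ hX LA KA LB KB hpd
    have ih' : IH.{u} π (Nat.card X) := by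
      intro Y _ _ hY
      exact ih Y (by omega)
    by_contra hbad
    obtain ⟨LA, KA, LB, KB, N, hm⟩ := exists_minCex hG hpd ih' hbad
    have hN := hm.normal
    obtain ⟨m, T, e, hm0, h⟩ := exists_sys N hm.min hm.nab
    set i0 : Fin m := ⟨0, hm0⟩
    have hs := h.simple i0
    have hna : ¬ IsMulCommutative (T i0) := by
      intro hc
      obtain ⟨a, b, hab⟩ := h.nab i0
      exact hab (mul_comm' a b)
    exact hRow (T i0) hna _ _ _ _ _ (hm.cfg h2 h i0 (hOut (T i0) hna))

end Cfsg.Agent.H817.PD
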